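import Cfsg.Agent.Lib.Walter.Seven.Split
import Cfsg.Agent.Lib.Elementary

/-!
Case (S): coordinates modulo seven on the split extension.

Blueprint: `blueprint/Walter.md`, case (S).
-/

set_option autoImplicit false
set_option linter.unusedSectionVars false
set_option linter.style.haveILetI false

namespace CfsgLib.Walter.Seven

open scoped commutatorElement
open Multiplicative (ofAdd toAdd)

universe u

/-- The subgroup generated by the commutators and the seventh powers. -/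
def kseven (P : Type u) [Group P] : Subgroup P :=
  Subgroup.closure {x | (∃ a b : P, ⁅a, b⁆ = x) ∨ ∃ a : P, a ^ 7 = x}

theorem kseven_map {P : Type u} [Group P] {A : Type*} [CommGroup A] (hA : ∀ a : A, a ^ 7 = 1) (θ : P →* A) {x : P}
    (hx : x ∈ kseven P) : θ x = 1 := by
  have hle : kseven P ≤ θ.ker := by
    refine (Subgroup.closure_le _).mpr ?_
    rintro y (⟨a, b, rfl⟩ | ⟨a, rfl⟩)
    · show θ ⁅a, b⁆ = 1
      rw [map_commutatorElement, commutatorElement_eq_one_iff_mul_comm, mul_comm]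
    · show θ (a ^ 7) = 1
      rw [map_pow, hA]
  exact hle hx

theorem kseven_le_frattini {P : Type u} [Group P] [Finite P] (hP : IsPGroup 7 P) : kseven P ≤ frattini P := by
  haveI : Fact (Nat.Prime 7) := ⟨by norm_num⟩
  refine (Subgroup.closure_le _).mpr ?_
  rintro y (⟨a, b, rfl⟩ | ⟨a, rfl⟩)
  · exact CfsgLib.commutator_le_frattini_pGroup hP
      (Subgroup.commutator_mem_commutator (Subgroup.mem_top a) (Subgroup.mem_top b))
  · exact CfsgLib.pow_mem_frattini_pGroup hP a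

theorem exp_seven (x : Multiplicative (ZMod 7)) : x ^ 7 = 1 := by
  have h : (7 : ℕ) • toAdd x = 0 := by rw [nsmul_eq_mul, show ((7 : ℕ) : ZMod 7) = 0 from ZMod.natCast_self 7, zero_mul]
  exact toAdd.injective ((toAdd_pow x 7).trans h)

variable {P : Type u} [Group P] {α : P ≃* P} {φ n : P} {E : ℕ} {W : Subgroup P}

/-- The exponent of `φ` modulo seven and a coordinate on `W`. -/
structure Coords (P : Type u) [Group P] (α : P ≃* P) (φ : P) (E : ℕ) (W : Subgroup P) where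
  e1 : P →* Multiplicative (ZMod 7)
  e2 : P →* Multiplicative (ZMod 7)
  w0 : P
  e1_φ : e1 φ = ofAdd 1
  e2_φ : e2 φ = 1
  e2_w0 : e2 w0 = ofAdd 1
  e1_W : ∀ w ∈ W, e1 w = 1
  w0_mem : w0 ∈ W
  α_w0 : α w0 = w0 ^ E
  gen : ∀ x : P, ∃ i j : ℕ, x * (w0 ^ j * φ ^ i)⁻¹ ∈ kseven P

namespace Coords

variable (K : Coords P α φ E W)

theorem e1_w0 : K.e1 K.w0 = 1 := K.e1_W _ K.w0_mem

theorem lin (θ : P →* Multiplicative (ZMod 7)) (x : P) :
    toAdd (θ x) = toAdd (θ φ) * toAdd (K.e1 x) + toAdd (θ K.w0) * toAdd (K.e2 x) := by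
  obtain ⟨i, j, h⟩ := K.gen x
  have key : ∀ f : P →* Multiplicative (ZMod 7), toAdd (f x) = j * toAdd (f K.w0) + i * toAdd (f φ) := by
    intro f
    have h1 := kseven_map exp_seven f h
    rw [map_mul, map_inv, mul_inv_eq_one, map_mul, map_pow, map_pow] at h1
    rw [h1, toAdd_mul, toAdd_pow, toAdd_pow, nsmul_eq_mul, nsmul_eq_mul]
  rw [key θ, key K.e1, key K.e2, K.e1_φ, K.e2_φ, K.e1_w0, K.e2_w0, toAdd_ofAdd, toAdd_one]
  ring

theorem mem_frattini [Finite P] (hP : IsPGroup 7 P) {x : P} (h1 : K.e1 x = 1) (h2 : K.e2 x = 1) :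
    x ∈ frattini P := by
  haveI : Fact (Nat.Prime 7) := ⟨by norm_num⟩
  obtain ⟨i, j, h⟩ := K.gen x
  have key : ∀ f : P →* Multiplicative (ZMod 7), f x = f K.w0 ^ j * f φ ^ i := by
    intro f
    have h' := kseven_map exp_seven f h
    rwa [map_mul, map_inv, mul_inv_eq_one, map_mul, map_pow, map_pow] at h'
  have hi : 7 ∣ i := by
    have := congrArg toAdd ((key K.e1).symm.trans h1)
    rw [K.e1_w0, K.e1_φ, one_pow, one_mul, toAdd_pow, toAdd_ofAdd, toAdd_one, nsmul_eq_mul, mul_one] at this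
    exact (ZMod.natCast_eq_zero_iff _ 7).mp this
  have hj : 7 ∣ j := by
    have := congrArg toAdd ((key K.e2).symm.trans h2)
    rw [K.e2_w0, K.e2_φ, one_pow, mul_one, toAdd_pow, toAdd_ofAdd, toAdd_one, nsmul_eq_mul, mul_one] at this
    exact (ZMod.natCast_eq_zero_iff _ 7).mp this
  have hp : ∀ (y : P) (m : ℕ), 7 ∣ m → y ^ m ∈ frattini P := by
    rintro y _ ⟨d, rfl⟩
    rw [pow_mul]
    exact pow_mem (CfsgLib.pow_mem_frattini_pGroup hP y) d
  have := mul_mem (kseven_le_frattini hP h) (mul_mem (hp K.w0 j hj) (hp φ i hi))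
  rwa [inv_mul_cancel_right] at this

end Coords

variable [Finite P]

theorem exists_coords (hg : Good 7 E) (h : Hyp P 7 α φ n E) (S : Split P α φ E W) (hφ : 7 ∣ orderOf φ) (hn : n ≠ 1) :
    Nonempty (Coords P α φ E W) := by
  classical
  haveI : Fact (Nat.Prime 7) := ⟨hg.prime⟩
  haveI := S.normal
  -- the decomposition is unique
  have hdec : ∀ x : P, ∃ w ∈ W, ∃ i : ℕ, x = w * φ ^ i := by
    intro x
    obtain ⟨w, hw, i, hi⟩ := S.decomp x
    obtain ⟨j, hj⟩ := (isOfFinOrder_of_finite φ).mem_powers_iff_mem_zpowers.mpr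
      (Subgroup.zpow_mem (Subgroup.zpowers φ) (Subgroup.mem_zpowers φ) i)
    exact ⟨w, hw, j, by rw [show φ ^ j = φ ^ i from hj]; exact hi⟩
  have huniq : ∀ w ∈ W, ∀ v ∈ W, ∀ i j : ℕ, w * φ ^ i = v * φ ^ j → w = v ∧ ((i : ZMod 7) = (j : ZMod 7)) := by
    intro w hw v hv i j e
    have h1 : φ ^ ((i : ℤ) - j) = w⁻¹ * v := by
      rw [zpow_sub, zpow_natCast, zpow_natCast, mul_inv_eq_iff_eq_mul, mul_assoc, ← e, inv_mul_cancel_left]
    have h2 := S.inf _ (h1 ▸ mul_mem (inv_mem hw) hv)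
    refine ⟨inv_mul_eq_one.mp (h1.symm.trans h2), ?_⟩
    have h3 : ((7 : ℕ) : ℤ) ∣ (i : ℤ) - j := (Int.natCast_dvd_natCast.mpr hφ).trans (orderOf_dvd_iff_zpow_eq_one.mpr h2)
    have h4 := (ZMod.intCast_zmod_eq_zero_iff_dvd _ 7).mpr h3
    push_cast at h4
    exact sub_eq_zero.mp h4
  choose wp hwp ip hip using hdec
  have hmul : ∀ x y, wp (x * y) = wp x * (φ ^ ip x * wp y * (φ ^ ip x)⁻¹) ∧
      ((ip (x * y) : ℕ) : ZMod 7) = ((ip x + ip y : ℕ) : ZMod 7) := by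
    intro x y
    refine huniq _ (hwp _) _ (mul_mem (hwp x) (S.normal.conj_mem _ (hwp y) _)) _ _ ?_
    rw [← hip (x * y), pow_add]
    conv_lhs => rw [hip x, hip y]
    group
  let e1 : P →* Multiplicative (ZMod 7) := MonoidHom.mk' (fun x => ofAdd ((ip x : ℕ) : ZMod 7)) fun x y => by
    rw [(hmul x y).2, Nat.cast_add, ofAdd_add]
  -- the coordinate on `W`
  letI : CommGroup W := { (inferInstance : Group W) with mul_comm := fun x y => Subtype.ext (S.comm _ x.2 _ y.2).eq }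
  have hδmem : ∀ w : W, (w : P) * φ * (w : P)⁻¹ * φ⁻¹ ∈ W := fun w => by
    have := mul_mem w.2 (S.normal.conj_mem _ (inv_mem w.2) φ)
    rwa [show (w : P) * (φ * (w : P)⁻¹ * φ⁻¹) = (w : P) * φ * (w : P)⁻¹ * φ⁻¹ by group] at this
  let δ : W →* W := MonoidHom.mk' (fun w => ⟨_, hδmem w⟩) fun w v => Subtype.ext (by
    show ((w * v : W) : P) * φ * ((w * v : W) : P)⁻¹ * φ⁻¹ = _ * φ * _ * φ⁻¹ * ((v : P) * φ * (v : P)⁻¹ * φ⁻¹)
    rw [← (S.comm _ (hδmem v) _ (hδmem w)).eq, Subgroup.coe_mul]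
    calc (w : P) * v * φ * ((w : P) * v)⁻¹ * φ⁻¹
        = (w : P) * ((v : P) * φ * (v : P)⁻¹ * φ⁻¹) * φ * (w : P)⁻¹ * φ⁻¹ := by group
      _ = (v : P) * φ * (v : P)⁻¹ * φ⁻¹ * (w : P) * φ * (w : P)⁻¹ * φ⁻¹ := by
        rw [(S.comm _ w.2 _ (hδmem v)).eq]
      _ = _ := by group)
  have hnW : n ∈ W := by
    obtain ⟨w, hw, i, e⟩ := S.decomp n
    have hc : Commute w φ := by
      have h1 : Commute φ (n * (φ ^ i)⁻¹) := h.comm.mul_right ((Commute.refl φ).zpow_right i).inv_right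
      rw [e, mul_inv_cancel_right] at h1
      exact h1.symm
    have h2 : w ^ E * φ ^ i = w ^ E * (φ ^ i) ^ E := by
      rw [← (hc.zpow_right i).mul_pow, ← e, ← h.αn, e, map_mul, S.scalar w hw, map_zpow, α_φ hg h]
    have h3 := eq_one_of_fixed_scalar hg h (x := φ ^ i) (by rw [map_zpow, α_φ hg h])
      (by rw [map_zpow, α_φ hg h]; exact mul_left_cancel h2)
    rw [e, h3, mul_one]; exact hw
  have hker : δ.ker = Subgroup.zpowers (⟨n, hnW⟩ : W) := by
    refine le_antisymm (fun w hw => ?_) (Subgroup.zpowers_le.mpr (Subtype.ext ?_))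
    · have hw' : (w : P) * φ * (w : P)⁻¹ * φ⁻¹ = 1 := congrArg Subtype.val hw
      obtain ⟨i, j, e⟩ := h.cent _ (mul_inv_eq_iff_eq_mul.mp (mul_inv_eq_one.mp hw') : Commute (w : P) φ)
      have hi := S.inf i (by
        have := mul_mem w.2 (inv_mem (Subgroup.zpow_mem W hnW j))
        rwa [e, mul_inv_cancel_right] at this)
      rw [hi, one_mul] at e
      exact ⟨j, Subtype.ext (by simpa using e.symm)⟩
    · show n * φ * n⁻¹ * φ⁻¹ = 1
      rw [h.comm.symm.eq, mul_inv_cancel_right, mul_inv_cancel]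
  have hidx : δ.range.index = 7 := by
    have h1 := δ.range.index_mul_card
    have h2 := δ.ker.index_mul_card
    rw [Subgroup.index_ker] at h2
    have h3 : Nat.card δ.ker = 7 := by
      rw [hker, Nat.card_zpowers, Subgroup.orderOf_mk]
      exact orderOf_eq_prime h.np hn
    rw [h3, ← h1, mul_comm] at h2
    exact (Nat.eq_of_mul_eq_mul_right Nat.card_pos h2).symm
  let eq : W ⧸ δ.range ≃* Multiplicative (ZMod 7) := mulEquivOfPrimeCardEq (p := 7)
    (by rw [← Subgroup.index_eq_card]; exact hidx) ((Nat.card_congr Multiplicative.toAdd).trans (Nat.card_zmod 7))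
  let χ : W →* Multiplicative (ZMod 7) := eq.toMonoidHom.comp (QuotientGroup.mk' δ.range)
  have hχδ : ∀ w, χ (δ w) = 1 := fun w => by
    show eq (QuotientGroup.mk' δ.range (δ w)) = 1
    rw [(QuotientGroup.eq_one_iff (δ w)).2 ⟨w, rfl⟩ |> (fun e => show QuotientGroup.mk' δ.range (δ w) = 1 from e),
      map_one]
  have hχconj : ∀ (i : ℕ) (w : W), χ ⟨φ ^ i * w * (φ ^ i)⁻¹, S.normal.conj_mem _ w.2 _⟩ = χ w := by
    intro i
    induction i with
    | zero => intro w; congr 1; exact Subtype.ext (by simp)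
    | succ i ih =>
      intro w
      rw [show (⟨φ ^ (i + 1) * w * (φ ^ (i + 1))⁻¹, S.normal.conj_mem _ w.2 _⟩ : W) =
          ⟨φ ^ i * ((⟨φ * w * φ⁻¹, S.normal.conj_mem _ w.2 _⟩ : W) : P) * (φ ^ i)⁻¹,
            S.normal.conj_mem _ (S.normal.conj_mem _ w.2 _) _⟩ from Subtype.ext (by
        show φ ^ (i + 1) * (w : P) * (φ ^ (i + 1))⁻¹ = φ ^ i * (φ * (w : P) * φ⁻¹) * (φ ^ i)⁻¹
        rw [pow_succ]; group), ih]
      have e : (⟨φ * w * φ⁻¹, S.normal.conj_mem _ w.2 _⟩ : W) = (δ w)⁻¹ * w := Subtype.ext (by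
        show φ * (w : P) * φ⁻¹ = ((w : P) * φ * (w : P)⁻¹ * φ⁻¹)⁻¹ * (w : P)
        group)
      rw [e, map_mul, map_inv, hχδ, inv_one, one_mul]
  let e2 : P →* Multiplicative (ZMod 7) := MonoidHom.mk' (fun x => χ ⟨wp x, hwp x⟩) fun x y => by
    rw [← hχconj (ip x) ⟨wp y, hwp y⟩, ← map_mul]
    congr 1
    exact Subtype.ext (hmul x y).1
  have hW' : ∀ (w : P) (hw : w ∈ W), e1 w = 1 ∧ e2 w = χ ⟨w, hw⟩ := by
    intro w hw
    obtain ⟨ew, ei⟩ := huniq _ (hwp w) w hw _ 0 (by rw [← hip w, pow_zero, mul_one])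
    refine ⟨?_, congrArg χ (Subtype.ext ew)⟩
    show ofAdd ((ip w : ℕ) : ZMod 7) = 1
    rw [ei, Nat.cast_zero, ofAdd_zero]
  have hφ' : e1 φ = ofAdd 1 ∧ e2 φ = 1 := by
    obtain ⟨ew, ei⟩ := huniq _ (hwp φ) 1 (one_mem W) _ 1 (by rw [← hip φ, pow_one, one_mul])
    refine ⟨?_, ?_⟩
    · show ofAdd ((ip φ : ℕ) : ZMod 7) = ofAdd 1
      rw [ei, Nat.cast_one]
    · show χ ⟨wp φ, hwp φ⟩ = 1
      rw [show (⟨wp φ, hwp φ⟩ : W) = 1 from Subtype.ext ew, map_one]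
  obtain ⟨q, hq⟩ := eq.surjective (ofAdd 1)
  obtain ⟨w0, rfl⟩ := QuotientGroup.mk'_surjective δ.range q
  refine ⟨⟨e1, e2, (w0 : P), hφ'.1, hφ'.2, ((hW' _ w0.2).2).trans hq, fun w hw => (hW' w hw).1, w0.2,
    S.scalar _ w0.2, fun x => ?_⟩⟩
  set j := (toAdd (χ ⟨wp x, hwp x⟩)).val
  refine ⟨ip x, j, ?_⟩
  have hr : (⟨wp x, hwp x⟩ : W) * (w0 ^ j)⁻¹ ∈ δ.range := by
    rw [← QuotientGroup.eq_one_iff]
    refine eq.injective ?_
    rw [map_one]
    show χ ((⟨wp x, hwp x⟩ : W) * (w0 ^ j)⁻¹) = 1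
    rw [map_mul, map_inv, map_pow, show χ w0 = ofAdd 1 from hq, mul_inv_eq_one]
    refine toAdd.injective ?_
    rw [toAdd_pow, toAdd_ofAdd, nsmul_eq_mul, mul_one, ZMod.natCast_zmod_val]
  obtain ⟨v, hv⟩ := hr
  have hv' : (v : P) * φ * (v : P)⁻¹ * φ⁻¹ = wp x * ((w0 : P) ^ j)⁻¹ := congrArg Subtype.val hv
  have hwx : x * (φ ^ ip x)⁻¹ = wp x := mul_inv_eq_iff_eq_mul.mpr (hip x)
  rw [_root_.mul_inv_rev, ← mul_assoc, hwx, ← hv']
  exact Subgroup.subset_closure (Or.inl ⟨v, φ, rfl⟩)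

end CfsgLib.Walter.Seven
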