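import Cfsg.Agent.Lib.Walter.Cases
import Cfsg.Agent.Lib.CharTheory.Burnside
import Cfsg.Agent.S3188

/-!
Case (S): the number of involutions of `C(φ)` divides 63.

Blueprint: `blueprint/Walter.md`, case (S).
-/

set_option autoImplicit false
set_option linter.unusedSectionVars false
set_option linter.style.haveILetI false

namespace CfsgLib.Walter.Seven

open Cfsg
open CfsgLib.PSL2 (fieldAut)
open CfsgLib.Comp

universe u

local notation "PSL₂[" K "]" => Matrix.ProjectiveSpecialLinearGroup (Fin 2) K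

variable {G : Type u} [Group G] [Finite G] {B : Base G} {C : Coord G} {r a : ℕ}

theorem qk_one (h : CaseS C r a) : C.qk 1 = 3 := by
  have e := C.qk_pow 1
  rw [pow_one, h.ord, h.hq] at e
  exact Nat.pow_left_injective (pow_ne_zero _ h.prime.ne_zero) e

theorem φ_ne (h : CaseS C r a) : C.φ ≠ 1 := fun e => by
  have h1 := C.φ_ord
  rw [e, orderOf_one, h.ord] at h1
  exact (Nat.one_lt_pow (by have := h.one_le; omega) h.prime.one_lt).ne h1


theorem hsN {S : Sylow 2 G} {g b c : PSL₂[C.F]} (Fr : Frame C S g b c) :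
    Subgroup.normalizer ((S : Subgroup G) : Set G) ≤ C.Cs 1 := fun n hn =>
  C.mem_Cs.mpr ((Fr.norm_comm n hn).pow_right 1)

theorem φq_eq_one (B : Base G) : C.φq 1 = 1 := by
  set φH : ↥(C.Cs 1) := ⟨C.φ, C.φ_mem_Cs 1⟩
  haveI : (Subgroup.zpowers φH).Normal := ⟨by
    rintro _ ⟨i, rfl⟩ x
    refine ⟨i, ?_⟩
    show φH ^ i = x * φH ^ i * x⁻¹
    have hc : Commute x φH := Subtype.ext (by
      show (x : G) * C.φ = C.φ * (x : G)
      simpa [Commute, SemiconjBy] using C.mem_Cs.mp x.2)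
    rw [(hc.zpow_right i).eq, mul_inv_cancel_right]⟩
  exact (QuotientGroup.eq_one_iff _).2 (CfsgLib.le_oddCore (by
    rw [Nat.card_zpowers, Subgroup.orderOf_mk, C.φ_ord]; exact C.odd_f) (Subgroup.mem_zpowers φH))

/-- The centraliser of the involution in `C(φ)/⟨φ⟩` is soluble. -/
theorem cent_small (B : Base G) (h : CaseS C r a) (x : C.HQ 1) (hx : Commute x (C.tq 1)) :
    ∃ (i : Fin 2) (y : PSL₂[C.Fx 1]), x = C.tq 1 ^ (i : ℕ) * C.ψ 1 y := by
  obtain ⟨w, rfl⟩ := bar_surjective 2 x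
  obtain ⟨i, y, j, hw⟩ := C.cs_form w.2 ((cs_comm_iff B C).mp hx)
  refine ⟨i, y, ?_⟩
  have hw' : w = ⟨C.t, C.t_mem_Cs 1⟩ ^ (i : ℕ) * ⟨C.ιk 1 y, C.ιk_mem 1 y⟩ * ⟨C.φ, C.φ_mem_Cs 1⟩ ^ j :=
    Subtype.ext (by simpa using hw)
  rw [hw', map_mul, map_mul, map_pow, map_pow]
  show C.tq 1 ^ (i : ℕ) * C.ψ 1 y * C.φq 1 ^ j = _
  rw [φq_eq_one B, one_pow, mul_one]

theorem count (B : Base G) (h : CaseS C r a) : C.Ct.relIndex (C.Cs 1) ∣ 63 := by
  classical
  haveI : Fact (Nat.Prime 2) := ⟨Nat.prime_two⟩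
  obtain ⟨S, g, b, c, Fr⟩ := exists_frame B C
  have hE := B.e8.sylow S
  have hN := hsN Fr
  have hSH : (S : Subgroup G) ≤ C.Cs 1 := Subgroup.le_normalizer.trans hN
  rcases trans_cases hE hSH (fun a ha b hb ha1 hb1 => by
    obtain ⟨n, hn, hne⟩ := B.trans S ha hb ha1 hb1
    exact ⟨n, ⟨hN hn, hn⟩, hne⟩) with hA | ⟨K, L⟩
  · -- `C(φ) = N(S)`
    have hall : ∀ x ∈ C.Cs 1, x ∈ Subgroup.normalizer ((S : Subgroup G) : Set G) := by
      intro x hx
      obtain ⟨o, ho, n, hn, hon⟩ := hA ⟨x, hx⟩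
      obtain ⟨l, hl⟩ := cs_core B C ((QuotientGroup.eq_one_iff o).2 ho)
      rw [show x = (o : G) * n from (congrArg Subtype.val hon).symm, hl]
      exact mul_mem (Subgroup.centralizer_le_normalizer _ (Subgroup.pow_mem _ Fr.φ_cent l)) hn
    let A : Type u := {x : G // x ∈ (S : Subgroup G) ∧ x ≠ 1}
    have hcard : Nat.card A = 7 := by
      rw [← Nat.card_congr (Equiv.refl A),
        show Nat.card A = ((((S : Subgroup G) : Set G)) \ {1}).ncard from (Nat.card_coe_set_eq _).symm.trans rfl,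
        Set.ncard_sdiff_singleton_of_mem (one_mem _), ← Nat.card_coe_set_eq,
        show Nat.card ((S : Subgroup G) : Set G) = 8 from hE.1]
    let f : ↥(C.Cs 1) ⧸ C.Ct.subgroupOf (C.Cs 1) → A :=
      Quotient.lift (fun x : ↥(C.Cs 1) => (⟨(x : G) * C.t * (x : G)⁻¹,
          (Subgroup.mem_normalizer_iff.mp (hall _ x.2) _).mp Fr.t_mem, fun e => C.t_ne (conj_eq_one_iff.mp e)⟩ : A))
        fun x y hxy => Subtype.ext (by
          have h1 : Commute ((x : G)⁻¹ * y) C.t :=
            Subgroup.mem_centralizer_singleton_iff.mp (Subgroup.mem_subgroupOf.mp (QuotientGroup.leftRel_apply.mp hxy))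
          show (x : G) * C.t * (x : G)⁻¹ = (y : G) * C.t * (y : G)⁻¹
          calc (x : G) * C.t * (x : G)⁻¹
              = x * (((x : G)⁻¹ * y) * C.t * ((x : G)⁻¹ * y)⁻¹) * (x : G)⁻¹ := by
                rw [h1.eq, mul_inv_cancel_right]
            _ = (y : G) * C.t * (y : G)⁻¹ := by group)
    have hf : Function.Bijective f := by
      constructor
      · rintro ⟨x⟩ ⟨y⟩ e
        refine Quotient.sound (QuotientGroup.leftRel_apply.mpr (Subgroup.mem_subgroupOf.mpr ?_))
        have e' : (x : G) * C.t * (x : G)⁻¹ = (y : G) * C.t * (y : G)⁻¹ := congrArg Subtype.val e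
        refine Subgroup.mem_centralizer_singleton_iff.mpr ?_
        show (x : G)⁻¹ * y * C.t = C.t * ((x : G)⁻¹ * y)
        calc (x : G)⁻¹ * y * C.t = (x : G)⁻¹ * ((y : G) * C.t * (y : G)⁻¹) * y := by group
          _ = C.t * ((x : G)⁻¹ * y) := by rw [← e']; group
      · rintro ⟨x, hx, hx1⟩
        obtain ⟨n, hn, hne⟩ := B.trans S Fr.t_mem hx C.t_ne hx1
        exact ⟨Quotient.mk'' ⟨n, hN hn⟩, Subtype.ext hne⟩
    show (C.Ct.subgroupOf (C.Cs 1)).index ∣ 63
    rw [Subgroup.index_eq_card, Nat.card_eq_of_bijective f hf, hcard]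
    norm_num
  haveI := L.normal
  have htK : C.tq 1 ∈ K := L.tbar_mem hSH Fr.t_mem
  have hfr : ∀ x : C.HQ 1, ∃ z ∈ K, Commute (z * x) (C.tq 1) := L.frattini hSH Fr.t_mem C.t_ne hE
  rw [cs_relIndex B C htK hfr]
  haveI := L.simple
  set τ : ↥K := ⟨C.tq 1, htK⟩
  have hτ1 : τ ≠ 1 := fun e => by
    have e' : C.tq 1 = 1 := congrArg Subtype.val e
    obtain ⟨l, hl⟩ := cs_core B C e'
    have hl' : C.t = C.φ ^ l := hl
    exact C.t_ne (hl'.trans (C.φ_pow_two (by rw [← hl']; exact C.tt)))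
  have hτ2 : orderOf τ = 2 := by
    refine orderOf_eq_prime (Subtype.ext ?_) hτ1
    rw [Subgroup.coe_pow, show (τ : C.HQ 1) = C.tq 1 from rfl, ← map_pow,
      show (⟨C.t, C.t_mem_Cs 1⟩ : ↥(C.Cs 1)) ^ 2 = 1 from Subtype.ext (by
        show C.t ^ 2 = 1; rw [pow_two, C.tt]), map_one, Subgroup.coe_one]
  have hnoK : ∀ M : Subgroup ↥K, M.index ≠ 2 := by
    intro M hM
    haveI := Subgroup.normal_of_index_eq_two hM
    obtain ⟨T⟩ : Nonempty (Sylow 2 K) := inferInstance
    have h8 : 8 ∣ Nat.card K := (L.e8 T).1 ▸ Subgroup.card_subgroup_dvd_card _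
    rcases (inferInstance : M.Normal).eq_bot_or_eq_top with e | e
    · rw [e, Subgroup.index_bot] at hM; omega
    · rw [e, Subgroup.index_top] at hM; omega
  -- the centraliser of `τ` in `K` is soluble
  letI : Fintype (C.Fx 1) := Fintype.ofFinite _
  have hq3 : Fintype.card (C.Fx 1) = 3 := Nat.card_eq_fintype_card.symm.trans (qk_one h)
  have hsmall : Nat.card (Subgroup.centralizer ({τ} : Set ↥K)) ≤ 24 := by
    let f : Fin 2 × PSL₂[C.Fx 1] → C.HQ 1 := fun p => C.tq 1 ^ (p.1 : ℕ) * C.ψ 1 p.2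
    have h12 : Nat.card PSL₂[C.Fx 1] = 12 := by
      have := two_mul_card_psl (F := C.Fx 1) (by rw [hq3])
      rw [hq3, show (3 : ℕ) * (3 ^ 2 - 1) = 24 by norm_num] at this
      omega
    have hc : Nat.card (Fin 2 × PSL₂[C.Fx 1]) = 24 := by
      rw [Nat.card_prod, Nat.card_fin, h12]
    rw [← hc]
    refine le_trans ?_ (Nat.card_le_card_of_surjective (Set.rangeFactorization f) Set.rangeFactorization_surjective)
    refine Nat.card_le_card_of_injective (fun z : Subgroup.centralizer ({τ} : Set ↥K) =>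
      (⟨((z : ↥K) : C.HQ 1), by
        obtain ⟨i, y, hy⟩ := cent_small B h ((z : ↥K) : C.HQ 1)
          (congrArg Subtype.val (Subgroup.mem_centralizer_singleton_iff.mp z.2))
        exact ⟨(i, y), hy.symm⟩⟩ : Set.range f)) fun z z' e => ?_
    have e' : ((z : ↥K) : C.HQ 1) = ((z' : ↥K) : C.HQ 1) :=
      congrArg (fun s : Set.range f => (s : C.HQ 1)) e
    exact Subtype.ext (Subtype.ext e')
  obtain ⟨T₀⟩ : Nonempty (Sylow 2 K) := inferInstance
  haveI hTc : IsMulCommutative (T₀ : Subgroup ↥K) := (L.e8 T₀).isMulCommutative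
  -- all involutions of `K` are conjugate
  have hconj : ∀ u : ↥K, orderOf u = 2 → ∃ w : ↥K, w * τ * w⁻¹ = u := by
    intro u hu
    obtain ⟨R, hR⟩ := exists_mem_sylow hu
    obtain ⟨R', hR'⟩ := exists_mem_sylow hτ2
    obtain ⟨d, hd⟩ := MulAction.exists_smul_eq ↥K R' R
    have hm : d * τ * d⁻¹ ∈ (R : Subgroup ↥K) := by
      rw [← hd, Sylow.coe_subgroup_smul]; exact ⟨τ, hR', rfl⟩
    have hR8 := L.e8 R
    haveI := hR8.isMulCommutative
    obtain ⟨n, -, hn⟩ := E8Solv.transitive hnoK R hR8.1 _ hm u hR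
      (fun e => hτ1 (conj_eq_one_iff.mp e)) (fun e => by rw [e, orderOf_one] at hu; omega)
    exact ⟨n * d, by rw [← hn]; group⟩
  have hsolC : Group.IsSolvable (Subgroup.centralizer ({τ} : Set ↥K)) := by
    have h8 : 8 ∣ Nat.card (Subgroup.centralizer ({τ} : Set ↥K)) := by
      obtain ⟨R, hR⟩ := exists_mem_sylow hτ2
      rw [← (L.e8 R).1]
      exact Subgroup.card_dvd_of_le fun x hx =>
        Subgroup.mem_centralizer_singleton_iff.mpr ((L.e8 R).comm hx hR)
    obtain ⟨m, hm⟩ := h8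
    have hpos : 0 < Nat.card (Subgroup.centralizer ({τ} : Set ↥K)) := Nat.card_pos
    have hm3 : m = 1 ∨ m = 2 ∨ m = 3 := by omega
    rcases hm3 with rfl | rfl | rfl
    · exact CfsgLib.CharTheory.isSolvable_of_card_two_primes (a := 3) (b := 0) Nat.prime_two Nat.prime_three
        (hm.trans (by norm_num))
    · exact CfsgLib.CharTheory.isSolvable_of_card_two_primes (a := 4) (b := 0) Nat.prime_two Nat.prime_three
        (hm.trans (by norm_num))
    · exact CfsgLib.CharTheory.isSolvable_of_card_two_primes (a := 3) (b := 1) Nat.prime_two Nat.prime_three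
        (hm.trans (by norm_num))
  have hsol : ∀ u : ↥K, orderOf u = 2 → Group.IsSolvable ↥(Subgroup.centralizer ({u} : Set ↥K)) := by
    intro u hu
    obtain ⟨w, hw⟩ := hconj u hu
    let e : ↥(Subgroup.centralizer ({u} : Set ↥K)) →* ↥(Subgroup.centralizer ({τ} : Set ↥K)) :=
      ((MulAut.conj w⁻¹).toMonoidHom.comp (Subgroup.centralizer ({u} : Set ↥K)).subtype).codRestrict _ fun z =>
        Subgroup.mem_centralizer_singleton_iff.mpr (by
          have hz : (z : ↥K) * u = u * (z : ↥K) := Subgroup.mem_centralizer_singleton_iff.mp z.2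
          show w⁻¹ * (z : ↥K) * w⁻¹⁻¹ * τ = τ * (w⁻¹ * (z : ↥K) * w⁻¹⁻¹)
          calc w⁻¹ * (z : ↥K) * w⁻¹⁻¹ * τ = w⁻¹ * ((z : ↥K) * (w * τ * w⁻¹)) * w := by group
            _ = w⁻¹ * ((w * τ * w⁻¹) * (z : ↥K)) * w := by rw [hw, hz]
            _ = τ * (w⁻¹ * (z : ↥K) * w⁻¹⁻¹) := by group)
    exact Group.isSolvable_of_isSolvable_injective (f := e) fun x y he =>
      Subtype.ext ((MulAut.conj w⁻¹).injective (congrArg Subtype.val he))
  -- so `K` has order 504
  have hK504 : Nat.card K = 504 := by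
    rcases Cfsg.Agent.S3188.result T₀ hTc hsol with hsK | ⟨F, iF, iFF, hF, N, hNn, ⟨e⟩, -⟩
    · exact absurd ⟨⟨IsSimpleGroup.comm_iff_isSolvable.mpr hsK⟩⟩ L.noncomm
    letI := iF
    letI := iFF
    have hO : oddCore ↥K = ⊥ := by
      refine ((inferInstance : (oddCore ↥K).Normal).eq_bot_or_eq_top).resolve_right fun e' => ?_
      have h2 : orderOf τ ∣ Nat.card (oddCore ↥K) := Subgroup.orderOf_dvd_natCard _ (e' ▸ Subgroup.mem_top τ)
      rw [hτ2] at h2
      exact Nat.not_even_iff_odd.mpr (Nat.coprime_two_right.mp (card_pPrimeCore_coprime (G := ↥K) 2))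
        (even_iff_two_dvd.mpr h2)
    haveI : IsSimpleGroup (↥K ⧸ oddCore ↥K) :=
      ((QuotientGroup.quotientMulEquivOfEq hO).trans QuotientGroup.quotientBot).isSimpleGroup
    have hNne : N ≠ ⊥ := fun e' => by
      have h1 : Nat.card N = 1 := Subgroup.card_eq_one.mpr e'
      rw [Nat.card_congr e.toEquiv] at h1
      have h1' := Nat.card_eq_one_iff_unique.mp h1
      have hmul := CfsgLib.SLCard.gcd_mul_card_PSL (F := F) (n := 2) (by norm_num)
      rw [h1, mul_one, CfsgLib.SLCard.card_SL_two] at hmul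
      have hq4 : 4 ≤ Fintype.card F := by
        rcases hF with ⟨-, h5⟩ | ⟨n, hn, hq⟩
        · omega
        · rw [hq]; exact le_trans (by norm_num) (Nat.pow_le_pow_right (by norm_num : 1 ≤ 2) hn)
      have := Nat.gcd_le_left (Fintype.card F - 1) (show 0 < 2 by norm_num)
      have h4 : 15 ≤ Fintype.card F ^ 2 - 1 := by
        have := Nat.pow_le_pow_left hq4 2
        omega
      have h5 := Nat.mul_le_mul hq4 h4
      omega
    have hNtop : N = ⊤ := (hNn.eq_bot_or_eq_top).resolve_left hNne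
    have eK : ↥K ≃* PSL₂[F] :=
      ((QuotientGroup.quotientMulEquivOfEq hO).trans QuotientGroup.quotientBot).symm.trans
        ((MulEquiv.subgroupCongr hNtop).trans Subgroup.topEquiv).symm |>.trans e
    have hcard : Nat.card K = Nat.card PSL₂[F] := Nat.card_congr eK.toEquiv
    have h8 : 2 ^ (Nat.card K).factorization 2 = 8 := by
      rw [← Sylow.card_eq_multiplicity T₀]; exact (L.e8 T₀).1
    have h8' : 2 ^ 3 ∣ Nat.card K ∧ ¬ 2 ^ 4 ∣ Nat.card K := by
      have hv : (Nat.card K).factorization 2 = 3 :=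
        Nat.pow_right_injective (le_refl 2) (h8.trans (by norm_num))
      exact ⟨(Nat.prime_two.pow_dvd_iff_le_factorization Nat.card_pos.ne').2 hv.ge,
        fun hd => by have := (Nat.prime_two.pow_dvd_iff_le_factorization Nat.card_pos.ne').1 hd; omega⟩
    rw [hcard] at h8' ⊢
    have hmul := CfsgLib.SLCard.gcd_mul_card_PSL (F := F) (n := 2) (by norm_num)
    rw [CfsgLib.SLCard.card_SL_two] at hmul
    rcases hF with ⟨hmod, -⟩ | ⟨n, hn, hq⟩
    · exfalso
      rw [Nat.gcd_eq_left (show 2 ∣ Fintype.card F - 1 by omega)] at hmul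
      have hd : 2 ^ 4 ∣ Fintype.card F * (Fintype.card F ^ 2 - 1) := by
        rw [← hmul, pow_succ']
        exact Nat.mul_dvd_mul_left 2 h8'.1
      have hodd : Fintype.card F % 2 = 1 := by omega
      have hd2 : 2 ^ 4 ∣ Fintype.card F ^ 2 - 1 :=
        ((Nat.coprime_two_left.mpr (Nat.odd_iff.mpr hodd)).pow_left 4).dvd_of_dvd_mul_left hd
      obtain ⟨c, hc⟩ : ∃ c, Fintype.card F = 8 * c + 3 ∨ Fintype.card F = 8 * c + 5 :=
        ⟨Fintype.card F / 8, by omega⟩
      rcases hc with e' | e'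
      · rw [e', show (8 * c + 3) ^ 2 = 16 * (4 * c * c + 3 * c) + 9 by ring] at hd2
        omega
      · rw [e', show (8 * c + 5) ^ 2 = 16 * (4 * c * c + 5 * c + 1) + 9 by ring] at hd2
        omega
    · have hodd : (Fintype.card F - 1) % 2 = 1 := by
        obtain ⟨d, hd⟩ : 2 ∣ Fintype.card F := hq ▸ dvd_pow_self 2 (by omega)
        have := Fintype.one_lt_card (α := F)
        omega
      rw [show Nat.gcd 2 (Fintype.card F - 1) = 1 from Nat.coprime_two_left.mpr (Nat.odd_iff.mpr hodd), one_mul] at hmul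
      rw [hmul] at h8' ⊢
      have h1 : 2 ^ n ∣ Fintype.card F * (Fintype.card F ^ 2 - 1) := Dvd.dvd.mul_right (hq ▸ dvd_rfl) _
      have hn3 : n = 3 := by
        by_contra hne
        rcases Nat.lt_or_ge n 3 with hlt | hge
        · have hn2 : n = 2 := by omega
          rw [hq, hn2] at h8'
          norm_num at h8'
        · exact h8'.2 ((pow_dvd_pow 2 (show 4 ≤ n by omega)).trans h1)
      rw [hq, hn3]; norm_num
  obtain ⟨d, hd⟩ : 8 ∣ Nat.card (Subgroup.centralizer ({τ} : Set ↥K)) := by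
    obtain ⟨R, hR⟩ := exists_mem_sylow hτ2
    rw [← (L.e8 R).1]
    exact Subgroup.card_dvd_of_le fun x hx => Subgroup.mem_centralizer_singleton_iff.mpr ((L.e8 R).comm hx hR)
  have hmul := (Subgroup.centralizer ({τ} : Set ↥K)).index_mul_card
  rw [hd, hK504] at hmul
  exact ⟨d, Nat.eq_of_mul_eq_mul_left (show 0 < 8 by norm_num) (by rw [show 8 * 63 = 504 by norm_num, ← hmul]; ring)⟩

/-- The prime is seven. -/
theorem r_eq (B : Base G) (h : CaseS C r a) : r = 7 := by
  haveI : Fact r.Prime := ⟨h.prime⟩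
  have hdvd : r ∣ orderOf C.σ := h.ord ▸ dvd_pow_self r (by have := h.one_le; omega)
  have hrel := r_dvd_relIndex B C hdvd 1 (IsPGroup.of_card (n := a) (by
    rw [zpow_one, Nat.card_zpowers, C.φ_ord, h.ord]))
  rw [zpow_one] at hrel
  have h63 : r ∣ 63 := (dvd_trans (by show r ∣ C.Ct.relIndex (Subgroup.centralizer ({C.φ ^ 1} : Set G)); rw [pow_one]; exact hrel) (count B h))
  rcases (h.prime.dvd_mul (m := 9) (n := 7)).mp (by simpa using h63) with h' | h'
  · exact absurd ((Nat.prime_dvd_prime_iff_eq h.prime Nat.prime_three).mp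
      (h.prime.dvd_of_dvd_pow (show r ∣ 3 ^ 2 by norm_num; exact h'))) h.ne_three
  · exact (Nat.prime_dvd_prime_iff_eq h.prime (by norm_num)).mp h'

end CfsgLib.Walter.Seven
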