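import Cfsg.Agent.Lib.Walter.Seven.Local
import Cfsg.Agent.Lib.Walter.J1Local.Tools
import Cfsg.Agent.Lib.HallNumbers.Sufficient

/-!
Case (S): no involution centralises `n`, and normalisers of seven-groups containing `n` are soluble.

Blueprint: `blueprint/Walter.md`, case (S).
-/

set_option autoImplicit false
set_option linter.unusedSectionVars false
set_option linter.style.haveILetI false

namespace CfsgLib.Walter.Seven

open Cfsg
open CfsgLib.Comp

universe u

variable {G : Type u} [Group G] [Finite G] {C : Coord G} {a : ℕ}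

/-- A seven-element of `C(t)` with trivial projection is trivial. -/
theorem eq_one_of_pr (h : CaseS C 7 a) {x : G} (hxm : x ∈ C.Ct) {k : ℕ} (hx : x ^ 7 ^ k = 1)
    (hpr : C.pr ⟨x, hxm⟩ = 1) : x = 1 := by
  have h7 : Nat.Prime 7 := by norm_num
  set z : C.pr.ker := ⟨⟨x, hxm⟩, hpr⟩
  have hd : orderOf z ∣ Nat.card C.pr.ker := orderOf_dvd_natCard z
  have hz : orderOf z ∣ 7 ^ k := orderOf_dvd_of_pow_eq_one (Subtype.ext (Subtype.ext hx))
  have h1 : orderOf z = 1 := Nat.eq_one_of_dvd_coprimes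
    ((h7.coprime_iff_not_dvd.mpr (ker_not_seven h)).pow_left k) hz hd
  exact congrArg (fun w : C.pr.ker => ((w : ↥C.Ct) : G)) (orderOf_eq_one_iff.mp h1)

/-- No involution centralises an element conjugate to its square. -/
theorem no_invol (B : Base G) (h : CaseS C 7 a) {g n v : G} (hgn : g * n * g⁻¹ = n ^ 2) (hn : n ≠ 1) {k : ℕ}
    (hk : n ^ 7 ^ k = 1) (hv : orderOf v = 2) : ¬ Commute v n := by
  intro hc
  obtain ⟨d, -, hd⟩ := seven_invol B h hv hc.symm (k := k) hk
  have h2 : (d * n * d⁻¹) ^ 2 ∈ Subgroup.zpowers C.φ := Subgroup.pow_mem _ hd 2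
  have e : d * g * d⁻¹ * (d * n * d⁻¹) * (d * g * d⁻¹)⁻¹ = (d * n * d⁻¹) ^ 2 := by
    rw [conj_pow, ← hgn]; group
  have := phi_fusion B hd h2 e
  rw [pow_two, left_eq_mul, conj_eq_one_iff] at this
  exact hn this

/-- The order of the normaliser of a seven-group containing such an element is not divisible by four. -/
theorem not_four (B : Base G) (h : CaseS C 7 a) {g n : G} (hgn : g * n * g⁻¹ = n ^ 2) (hn : n ≠ 1) {Q : Subgroup G}
    (hQ : IsPGroup 7 Q) (hnQ : n ∈ Q) : ¬ 2 ^ 2 ∣ Nat.card (Subgroup.normalizer (Q : Set G)) := by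
  intro h4
  haveI : Fact (Nat.Prime 2) := ⟨Nat.prime_two⟩
  haveI : Fact (Nat.Prime 7) := ⟨by norm_num⟩
  obtain ⟨T0, hT0⟩ := Sylow.exists_subgroup_card_pow_prime 2 h4
  set T := T0.map (Subgroup.normalizer (Q : Set G)).subtype
  have hT : Nat.card T = 4 := by
    rw [Subgroup.card_map_of_injective (Subgroup.subtype_injective _), hT0]; norm_num
  have hTN : T ≤ Subgroup.normalizer (Q : Set G) := Subgroup.map_subtype_le _
  obtain ⟨S, hS⟩ := (IsPGroup.of_card (n := 2) (show Nat.card T = 2 ^ 2 by rw [hT]; norm_num)).exists_le_sylow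
  have hE := B.e8.sylow S
  have hsq : ∀ v ∈ T, v * v = 1 := fun v hv => hE.2 v (hS hv)
  have hQodd : Odd (Nat.card Q) := by
    obtain ⟨k, hk⟩ := IsPGroup.iff_card.mp hQ
    rw [hk]; exact Odd.pow (by decide)
  have hc : ∀ v ∈ T, v ≠ 1 → ∀ a ∈ T, ∀ x ∈ Q, Commute v x → Commute a x := by
    intro v hv hv1 w hw x hx hvx
    have hvo : orderOf v = 2 := hE.orderOf_eq_two (hS hv) hv1
    obtain ⟨d, hd⟩ := B.all_conj hvo C.t_ord
    have hmem : ∀ y : G, Commute v y → d * y * d⁻¹ ∈ C.Ct := fun y hy =>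
      Subgroup.mem_centralizer_singleton_iff.mpr (by
        have := hy.symm.map (MulAut.conj d).toMonoidHom
        simp only [MulEquiv.coe_toMonoidHom, MulAut.conj_apply] at this
        rw [hd] at this
        exact this.eq)
    have hvw : Commute v w := hE.comm (hS hv) (hS hw)
    set z := w * x * w⁻¹ * x⁻¹
    have hzQ : z ∈ Q := mul_mem ((Subgroup.mem_normalizer_iff.mp (hTN hw) x).mp hx) (Q.inv_mem hx)
    have hvz : Commute v z := ((hvw.mul_right hvx).mul_right hvw.inv_right).mul_right hvx.inv_right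
    obtain ⟨k, hk⟩ := hQ ⟨z, hzQ⟩
    have hk' : z ^ 7 ^ k = 1 := congrArg Subtype.val hk
    have h1 : d * z * d⁻¹ = 1 := by
      refine eq_one_of_pr h (hmem z hvz) (k := k) (by rw [conj_pow, hk', mul_one, mul_inv_cancel]) ?_
      have e : (⟨d * z * d⁻¹, hmem z hvz⟩ : ↥C.Ct) = ⟨d * w * d⁻¹, hmem w hvw⟩ * ⟨d * x * d⁻¹, hmem x hvx⟩ *
          ⟨d * w * d⁻¹, hmem w hvw⟩⁻¹ * ⟨d * x * d⁻¹, hmem x hvx⟩⁻¹ := Subtype.ext (by
        show d * (w * x * w⁻¹ * x⁻¹) * d⁻¹ = d * w * d⁻¹ * (d * x * d⁻¹) * (d * w * d⁻¹)⁻¹ * (d * x * d⁻¹)⁻¹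
        group)
      haveI : IsMulCommutative (Subgroup.zpowers C.φ) := inferInstance
      rw [e, map_mul, map_mul, map_mul, map_inv, map_inv, mul_comm' (C.pr ⟨d * w * d⁻¹, hmem w hvw⟩),
        mul_inv_cancel_right, mul_inv_cancel]
    rw [conj_eq_one_iff] at h1
    exact mul_inv_eq_iff_eq_mul.mp (mul_inv_eq_one.mp h1)
  have hle := CfsgLib.Walter.four_le_centralizer hT hsq hQodd hTN hc
  obtain ⟨v, hv⟩ := exists_prime_orderOf_dvd_card' (G := T) 2 (by rw [hT]; norm_num)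
  obtain ⟨k, hk⟩ := hQ ⟨n, hnQ⟩
  exact no_invol B h hgn hn (congrArg Subtype.val hk) ((Subgroup.orderOf_coe v).trans hv)
    (hle hnQ (v : G) v.2)

/-- The normaliser of a seven-group containing such an element is soluble. -/
theorem solvable_normalizer (B : Base G) (h : CaseS C 7 a) {g n : G} (hgn : g * n * g⁻¹ = n ^ 2) (hn : n ≠ 1)
    {Q : Subgroup G} (hQ : IsPGroup 7 Q) (hnQ : n ∈ Q) :
    Group.IsSolvable (Subgroup.normalizer (Q : Set G)) :=
  CfsgLib.HallNumbers.solvable_of_not_four (not_four B h hgn hn hQ hnQ)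

end CfsgLib.Walter.Seven
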