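import Cfsg.Agent.Lib.Walter.Seven.Count

/-!
Case (S): the centraliser of `φ`, fusion in `⟨φ⟩`, and the elements `n`, `g`.

Blueprint: `blueprint/Walter.md`, case (S).
-/

set_option autoImplicit false
set_option linter.unusedSectionVars false
set_option linter.style.haveILetI false

namespace CfsgLib.Walter.Seven

open Cfsg
open CfsgLib.PSL2 (fieldAut)
open CfsgLib.Comp

universe u

local notation "PSL₂[" K "]" => Matrix.ProjectiveSpecialLinearGroup (Fin 2) K

variable {G : Type u} [Group G] [Finite G] {C : Coord G} {a : ℕ}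

theorem φ_card (h : CaseS C 7 a) : Nat.card (Subgroup.zpowers C.φ) = 7 ^ a := by
  rw [Nat.card_zpowers, C.φ_ord, h.ord]

theorem three_mul_eight_ne : (3 * (3 ^ 2 - 1) : ZMod 7) ≠ 0 := by decide

/-- Seven does not divide the order of `L₂(q)`. -/
theorem not_seven (h : CaseS C 7 a) : ¬ 7 ∣ Nat.card PSL₂[C.F] := by
  intro hd
  haveI : Fact (Nat.Prime 7) := ⟨by norm_num⟩
  have hq := C.hq
  have h2 := (Dvd.dvd.mul_left hd 2)
  rw [two_mul_card_psl (F := C.F) (by omega), h.hq] at h2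
  have h3 := (ZMod.natCast_eq_zero_iff _ 7).2 h2
  rw [Nat.cast_mul, Nat.cast_sub (Nat.one_le_pow _ _ (by positivity))] at h3
  simp only [Nat.cast_pow, Nat.cast_one, ZMod.pow_card_pow, Nat.cast_ofNat] at h3
  exact three_mul_eight_ne h3

theorem φ_in (h : CaseS C 7 a) : IsPGroup 7 (Subgroup.zpowers C.φ) := IsPGroup.of_card (φ_card h)

theorem pr_of_zpowers {x : G} (hx : x ∈ Subgroup.zpowers C.φ) (hm : x ∈ C.Ct) : (C.pr ⟨x, hm⟩ : G) = x := by
  obtain ⟨i, rfl⟩ := hx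
  have e : (⟨C.φ ^ i, hm⟩ : ↥C.Ct) = ⟨C.φ, C.φ_mem_Ct⟩ ^ i := Subtype.ext rfl
  show (C.pr ⟨C.φ ^ i, hm⟩ : G) = C.φ ^ i
  rw [e, map_zpow, Subgroup.coe_zpow, C.pr_φ]

/-- The kernel of the projection of `C(t)` on `⟨φ⟩` has order prime to seven. -/
theorem ker_not_seven (h : CaseS C 7 a) : ¬ 7 ∣ Nat.card C.pr.ker := by
  haveI : Fact (Nat.Prime 7) := ⟨by norm_num⟩
  intro hd
  obtain ⟨z, hz⟩ := exists_prime_orderOf_dvd_card' 7 hd
  have hz1 : z ≠ 1 := fun e => by simp [e] at hz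
  have hz7 : (z : ↥C.Ct) ^ 7 = 1 := by
    have := pow_orderOf_eq_one z
    rw [hz] at this
    exact congrArg Subtype.val this
  have hpr : C.pr (z : ↥C.Ct) = 1 := z.2
  set i := (C.exists_proj (z : ↥C.Ct)).choose
  set y := (C.exists_proj (z : ↥C.Ct)).choose_spec.choose
  have hj : C.φ ^ (C.exists_proj (z : ↥C.Ct)).choose_spec.choose_spec.choose = 1 := congrArg Subtype.val hpr
  have hzy := (C.exists_proj (z : ↥C.Ct)).choose_spec.choose_spec.choose_spec
  rw [hj, mul_one] at hzy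
  have h7 : C.t ^ ((i : ℕ) * 7) * C.ι (y ^ 7) = 1 := by
    rw [map_pow, pow_mul, ← ((C.t_ι y).pow_left (i : ℕ)).mul_pow, ← hzy]
    exact congrArg Subtype.val hz7
  have hi7 : C.t ^ ((i : ℕ) * 7) = C.t ^ (i : ℕ) := by
    rw [show (i : ℕ) * 7 = (i : ℕ) + 2 * ((i : ℕ) * 3) by ring, pow_add, pow_mul C.t, pow_two, C.tt, one_pow, mul_one]
  obtain ⟨hi0, hy7, -⟩ := C.unique (i := i) (x := y ^ 7) (j := 0) (by rw [pow_zero, mul_one, ← hi7]; exact h7)
  have hy : y = 1 := by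
    rw [← orderOf_eq_one_iff]
    rcases (Nat.dvd_prime (by norm_num : Nat.Prime 7)).mp (orderOf_dvd_of_pow_eq_one hy7) with e | e
    · exact e
    · exact absurd (e ▸ orderOf_dvd_natCard y) (not_seven h)
  refine hz1 (Subtype.ext (Subtype.ext ?_))
  rw [hzy]
  have hy' : (C.exists_proj (z : ↥C.Ct)).choose_spec.choose = 1 := hy
  have hi' : (C.exists_proj (z : ↥C.Ct)).choose = 0 := hi0
  rw [hy', hi']
  simp

/-- An element of seven-power order commuting with `t` is conjugate in `C(t)` into `⟨φ⟩`. -/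
theorem seven_in_Ct (h : CaseS C 7 a) {x : G} (hxt : Commute x C.t) {k : ℕ} (hx : x ^ 7 ^ k = 1) :
    ∃ c : G, Commute c C.t ∧ c * x * c⁻¹ ∈ Subgroup.zpowers C.φ := by
  haveI : Fact (Nat.Prime 7) := ⟨by norm_num⟩
  set φ' : ↥C.Ct := ⟨C.φ, C.φ_mem_Ct⟩
  have hp : IsPGroup 7 (Subgroup.zpowers φ') :=
    IsPGroup.of_card (n := a) (by rw [Nat.card_zpowers, Subgroup.orderOf_mk, C.φ_ord, h.ord])
  have hker := ker_not_seven h
  have hidx : (Subgroup.zpowers φ').index = Nat.card C.pr.ker := by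
    have h1 := (Subgroup.zpowers φ').index_mul_card
    have h2 := C.pr.ker.index_mul_card
    rw [Nat.card_zpowers, Subgroup.orderOf_mk] at h1
    have hr : C.pr.ker.index = orderOf C.φ := by
      rw [Subgroup.index_ker, MonoidHom.range_eq_top.2, Subgroup.card_top, Nat.card_zpowers]
      rintro ⟨z, hz⟩
      exact ⟨⟨z, Subgroup.zpowers_le.mpr C.φ_mem_Ct hz⟩, Subtype.ext (pr_of_zpowers hz _)⟩
    rw [hr, ← h1, mul_comm] at h2
    exact (Nat.eq_of_mul_eq_mul_right (orderOf_pos C.φ) h2).symm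
  let P : Sylow 7 ↥C.Ct := hp.toSylow (hidx ▸ hker)
  have hxm : x ∈ C.Ct := Subgroup.mem_centralizer_singleton_iff.mpr hxt.eq
  have hxp : IsPGroup 7 (Subgroup.zpowers (⟨x, hxm⟩ : ↥C.Ct)) := by
    obtain ⟨i, -, hi⟩ := (Nat.dvd_prime_pow (by norm_num : Nat.Prime 7)).mp (orderOf_dvd_of_pow_eq_one hx)
    exact IsPGroup.of_card (n := i) (by rw [Nat.card_zpowers, Subgroup.orderOf_mk, hi])
  obtain ⟨T, hT⟩ := hxp.exists_le_sylow
  obtain ⟨c, hc⟩ := MulAction.exists_smul_eq ↥C.Ct T P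
  have hm : c * ⟨x, hxm⟩ * c⁻¹ ∈ (P : Subgroup ↥C.Ct) := by
    rw [← hc, Sylow.coe_subgroup_smul]
    exact ⟨_, hT (Subgroup.mem_zpowers _), rfl⟩
  obtain ⟨i, hi⟩ := (hm : c * ⟨x, hxm⟩ * c⁻¹ ∈ Subgroup.zpowers φ')
  exact ⟨c, Subgroup.mem_centralizer_singleton_iff.mp c.2, i, congrArg Subtype.val hi⟩

/-- Conjugate elements of `⟨φ⟩` are equal. -/
theorem phi_fusion (B : Base G) {x y m : G} (hx : x ∈ Subgroup.zpowers C.φ) (hy : y ∈ Subgroup.zpowers C.φ)
    (he : m * x * m⁻¹ = y) : x = y := by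
  obtain ⟨i, rfl⟩ := hy
  obtain ⟨l, rfl⟩ := hx
  have hv : Commute (m * C.t * m⁻¹) (C.φ ^ i) := by
    have := ((C.t_φ).zpow_right l).map (MulAut.conj m).toMonoidHom
    simp only [MulEquiv.coe_toMonoidHom, MulAut.conj_apply] at this
    rwa [show m * C.φ ^ l * m⁻¹ = C.φ ^ i from he] at this
  obtain ⟨h, hh, hht⟩ := cent_pow_conj B C i (u := m * C.t * m⁻¹)
    (by rw [← MulAut.conj_apply, MulEquiv.orderOf_eq, C.t_ord]) hv
  have hc : h⁻¹ * m ∈ C.Ct := Subgroup.mem_centralizer_singleton_iff.mpr (by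
    calc h⁻¹ * m * C.t = h⁻¹ * (m * C.t * m⁻¹) * m := by group
      _ = C.t * (h⁻¹ * m) := by rw [← hht]; group)
  have hlm : C.φ ^ l ∈ C.Ct := Subgroup.zpow_mem _ C.φ_mem_Ct l
  have him : C.φ ^ i ∈ C.Ct := Subgroup.zpow_mem _ C.φ_mem_Ct i
  have e : (⟨h⁻¹ * m, hc⟩ : ↥C.Ct) * ⟨C.φ ^ l, hlm⟩ * ⟨h⁻¹ * m, hc⟩⁻¹ = ⟨C.φ ^ i, him⟩ := Subtype.ext (by
    show h⁻¹ * m * C.φ ^ l * (h⁻¹ * m)⁻¹ = C.φ ^ i
    rw [show h⁻¹ * m * C.φ ^ l * (h⁻¹ * m)⁻¹ = h⁻¹ * (m * C.φ ^ l * m⁻¹) * h by group,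
      show m * C.φ ^ l * m⁻¹ = C.φ ^ i from he, hh.inv_left.eq, inv_mul_cancel_right])
  haveI : IsMulCommutative (Subgroup.zpowers C.φ) := inferInstance
  have e' := congrArg C.pr e
  rw [map_mul, map_mul, map_inv, mul_comm' (C.pr ⟨h⁻¹ * m, hc⟩), mul_inv_cancel_right] at e'
  have e'' := congrArg Subtype.val e'
  rwa [pr_of_zpowers (Subgroup.zpow_mem _ (Subgroup.mem_zpowers _) l), pr_of_zpowers
    (Subgroup.zpow_mem _ (Subgroup.mem_zpowers _) i)] at e''

/-- An element of seven-power order commuting with an involution is conjugate into `⟨φ⟩`. -/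
theorem seven_invol (B : Base G) (h : CaseS C 7 a) {x v : G} (hv : orderOf v = 2) (hxv : Commute x v) {k : ℕ}
    (hx : x ^ 7 ^ k = 1) :
    ∃ d : G, d * v * d⁻¹ = C.t ∧ d * x * d⁻¹ ∈ Subgroup.zpowers C.φ := by
  obtain ⟨d, hd⟩ := B.all_conj hv C.t_ord
  have h1 : Commute (d * x * d⁻¹) C.t := by
    rw [← hd]
    exact hxv.map (MulAut.conj d).toMonoidHom
  obtain ⟨c, hc, hcx⟩ := seven_in_Ct h h1 (k := k) (by rw [conj_pow, hx, mul_one, mul_inv_cancel])
  refine ⟨c * d, ?_, ?_⟩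
  · rw [show c * d * v * (c * d)⁻¹ = c * (d * v * d⁻¹) * c⁻¹ by group, hd, hc.eq, mul_inv_cancel_right]
  · rwa [show c * d * x * (c * d)⁻¹ = c * (d * x * d⁻¹) * c⁻¹ by group]

theorem φ_comm_cs {x : G} (hx : x ∈ C.Cs 1) : Commute x C.φ := by
  have := C.mem_Cs.mp hx
  rwa [pow_one] at this

theorem mem_cs {x : G} (hx : Commute x C.φ) : x ∈ C.Cs 1 := C.mem_Cs.mpr (by rw [pow_one]; exact hx)

/-- The order of `C(t) ∩ C(φ)`. -/
theorem card_cst (B : Base G) (h : CaseS C 7 a) : Nat.card ↥(C.Cs 1 ⊓ C.Ct) = 24 * 7 ^ a := by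
  classical
  haveI : Fact (Nat.Prime 2) := ⟨Nat.prime_two⟩
  haveI : Fact (Nat.Prime 3) := ⟨Nat.prime_three⟩
  letI : Fintype (C.Fx 1) := Fintype.ofFinite _
  have hq3 : Fintype.card (C.Fx 1) = 3 := Nat.card_eq_fintype_card.symm.trans (qk_one h)
  have h12 : Nat.card PSL₂[C.Fx 1] = 12 := by
    have := two_mul_card_psl (F := C.Fx 1) (by rw [hq3])
    rw [hq3, show (3 : ℕ) * (3 ^ 2 - 1) = 24 by norm_num] at this
    omega
  have hc : Nat.card (Fin 2 × PSL₂[C.Fx 1] × Subgroup.zpowers C.φ) = 24 * 7 ^ a := by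
    rw [Nat.card_prod, Nat.card_prod, Nat.card_fin, h12, φ_card h]; ring
  have hle : Nat.card ↥(C.Cs 1 ⊓ C.Ct) ≤ 24 * 7 ^ a := by
    rw [← hc]
    let f : Fin 2 × PSL₂[C.Fx 1] × Subgroup.zpowers C.φ → G := fun p => C.t ^ (p.1 : ℕ) * C.ιk 1 p.2.1 * p.2.2
    refine le_trans (Nat.card_le_card_of_injective (fun z : ↥(C.Cs 1 ⊓ C.Ct) => (⟨(z : G), ?_⟩ : Set.range f))
      fun z z' e => Subtype.ext (congrArg (fun s : Set.range f => (s : G)) e))
      (Nat.card_le_card_of_surjective (Set.rangeFactorization f) Set.rangeFactorization_surjective)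
    obtain ⟨i, y, j, hz⟩ := C.cs_form z.2.1 (Subgroup.mem_centralizer_singleton_iff.mp z.2.2)
    exact ⟨(i, y, ⟨C.φ ^ j, Subgroup.pow_mem _ (Subgroup.mem_zpowers _) j⟩), hz.symm⟩
  obtain ⟨S, g, b, c, Fr⟩ := exists_frame B C
  have hS : (S : Subgroup G) ≤ C.Cs 1 ⊓ C.Ct := fun x hx => ⟨Subgroup.le_normalizer.trans (hsN Fr) hx,
    Subgroup.mem_centralizer_singleton_iff.mpr ((B.e8.sylow S).comm hx Fr.t_mem)⟩
  have h8 : 2 ^ 3 ∣ Nat.card ↥(C.Cs 1 ⊓ C.Ct) := by
    have := Subgroup.card_dvd_of_le hS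
    rwa [(B.e8.sylow S).1] at this
  have h3 : 3 ∣ Nat.card ↥(C.Cs 1 ⊓ C.Ct) := by
    have hg : C.ι g ∈ C.Cs 1 ⊓ C.Ct :=
      ⟨hsN Fr Fr.g_norm, Subgroup.mem_centralizer_singleton_iff.mpr (C.t_ι g).eq.symm⟩
    have ho : orderOf (C.ι g) = 3 := by
      refine orderOf_eq_prime (by rw [← map_pow, Fr.a4.g3, map_one]) fun e => Fr.a4.g1 (C.ι_inj (e.trans (map_one _).symm))
    exact ho ▸ Subgroup.orderOf_dvd_natCard _ hg
  have h7 : 7 ^ a ∣ Nat.card ↥(C.Cs 1 ⊓ C.Ct) := by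
    rw [← φ_card h]
    exact Subgroup.card_dvd_of_le (Subgroup.zpowers_le.mpr ⟨C.φ_mem_Cs 1, C.φ_mem_Ct⟩)
  have hd : 24 * 7 ^ a ∣ Nat.card ↥(C.Cs 1 ⊓ C.Ct) := by
    refine Nat.Coprime.mul_dvd_of_dvd_of_dvd (Nat.Coprime.pow_right a (by norm_num)) ?_ h7
    exact Nat.Coprime.mul_dvd_of_dvd_of_dvd (m := 8) (n := 3) (by norm_num) h8 h3
  exact le_antisymm hle (Nat.le_of_dvd Nat.card_pos hd)

/-- A seven-element of `C(t) ∩ C(φ)` is a power of `φ`. -/
theorem seven_cst (B : Base G) (h : CaseS C 7 a) {x : G} (hx : x ∈ C.Cs 1 ⊓ C.Ct) {k : ℕ} (hxk : x ^ 7 ^ k = 1) :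
    x ∈ Subgroup.zpowers C.φ := by
  haveI : Fact (Nat.Prime 7) := ⟨by norm_num⟩
  haveI : ((Subgroup.zpowers C.φ).subgroupOf (C.Cs 1 ⊓ C.Ct)).Normal := ⟨fun z hz y => by
    obtain ⟨i, hi⟩ := hz
    refine ⟨i, ?_⟩
    show C.φ ^ i = (y : G) * (z : G) * (y : G)⁻¹
    have hi' : C.φ ^ i = (z : G) := hi
    rw [← hi', ((φ_comm_cs y.2.1).zpow_right i).eq, mul_inv_cancel_right]⟩
  have hle : Subgroup.zpowers C.φ ≤ C.Cs 1 ⊓ C.Ct := Subgroup.zpowers_le.mpr ⟨C.φ_mem_Cs 1, C.φ_mem_Ct⟩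
  have hidx : ((Subgroup.zpowers C.φ).subgroupOf (C.Cs 1 ⊓ C.Ct)).index = 24 := by
    have h1 := ((Subgroup.zpowers C.φ).subgroupOf (C.Cs 1 ⊓ C.Ct)).index_mul_card
    rw [Nat.card_congr (Subgroup.subgroupOfEquivOfLe hle).toEquiv, φ_card h, card_cst B h] at h1
    exact Nat.eq_of_mul_eq_mul_right (pow_pos (by norm_num) a) h1
  set z : ↥(C.Cs 1 ⊓ C.Ct) := ⟨x, hx⟩
  set N := (Subgroup.zpowers C.φ).subgroupOf (C.Cs 1 ⊓ C.Ct)
  have h1 : orderOf ((QuotientGroup.mk z : ↥(C.Cs 1 ⊓ C.Ct) ⧸ N)) ∣ 24 := by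
    rw [← hidx, Subgroup.index_eq_card]; exact orderOf_dvd_natCard _
  have h2 : orderOf ((QuotientGroup.mk z : ↥(C.Cs 1 ⊓ C.Ct) ⧸ N)) ∣ 7 ^ k :=
    orderOf_dvd_of_pow_eq_one (by rw [← QuotientGroup.mk_pow, show z ^ 7 ^ k = 1 from Subtype.ext hxk]; rfl)
  have h3 := orderOf_eq_one_iff.mp (Nat.eq_one_of_dvd_coprimes (Nat.Coprime.pow_right k (by norm_num)) h1 h2)
  exact (QuotientGroup.eq_one_iff z).mp h3

theorem card_cs (B : Base G) :
    Nat.card ↥(C.Cs 1) = Nat.card ↥(C.Cs 1 ⊓ C.Ct) * C.Ct.relIndex (C.Cs 1) := by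
  rw [← (C.Ct.subgroupOf (C.Cs 1)).card_mul_index, ← Subgroup.inf_subgroupOf_left,
    Nat.card_congr (Subgroup.subgroupOfEquivOfLe inf_le_left).toEquiv, Subgroup.relIndex, Subgroup.inf_subgroupOf_left]

/-- The elements `g`, `n` and the facts about `C(φ)`. -/
structure Data (C : Coord G) (a : ℕ) where
  g : G
  n : G
  g_ord : orderOf g = 3
  g_cs : g ∈ C.Cs 1
  n_ord : orderOf n = 7
  n_cs : n ∈ C.Cs 1
  g_n : g * n * g⁻¹ = n ^ 2
  n_not : n ∉ Subgroup.zpowers C.φ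
  cent_n : ∀ x ∈ C.Cs 1, Commute x n → ∀ l : ℕ, l.Prime → l ≠ 7 → orderOf x ≠ l
  sylow : ∀ Q : Subgroup G, Q ≤ C.Cs 1 → IsPGroup 7 Q → Nat.card Q ≤ 7 ^ (a + 1)
  cent_g : ∀ x ∈ C.Cs 1, Commute x g → ∀ k : ℕ, x ^ 7 ^ k = 1 → x ∈ Subgroup.zpowers C.φ

theorem exists_data (B : Base G) (h : CaseS C 7 a) : Nonempty (Data C a) := by
  classical
  haveI : Fact (Nat.Prime 2) := ⟨Nat.prime_two⟩
  haveI h7f : Fact (Nat.Prime 7) := ⟨by norm_num⟩
  haveI : Fact (Nat.Prime 3) := ⟨Nat.prime_three⟩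
  obtain ⟨S, g₀, b, c, Fr⟩ := exists_frame B C
  have hE := B.e8.sylow S
  set H := C.Cs 1 with hH
  set NS := Subgroup.normalizer ((S : Subgroup G) : Set G) with hNS
  have hN : NS ≤ H := hsN Fr
  have hSN : (S : Subgroup G) ≤ NS := Subgroup.le_normalizer
  have hSH := hSN.trans hN
  have hφNS : C.φ ∈ NS := Subgroup.centralizer_le_normalizer _ Fr.φ_cent
  obtain ⟨N, hNdef⟩ : ∃ N, C.Ct.relIndex H = N := ⟨_, rfl⟩
  have hN63 : N ∣ 63 := hNdef ▸ count B h
  have hcardH : Nat.card H = 24 * 7 ^ a * N := by rw [card_cs B, card_cst B h, hNdef]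
  have hN7 : 7 ∣ N := by
    have hrel := r_dvd_relIndex B C (r := 7) (h.ord ▸ dvd_pow_self 7 (by have := h.one_le; omega)) 1
      (by rw [zpow_one]; exact φ_in h)
    rw [zpow_one] at hrel
    rw [← hNdef, hH]
    show 7 ∣ C.Ct.relIndex (Subgroup.centralizer ({C.φ ^ 1} : Set G))
    rw [pow_one]; exact hrel
  have hN49 : ¬ 49 ∣ N := fun hd => absurd (hd.trans hN63) (by norm_num)
  -- the index of `C(t)` in `N(S)` is seven
  let A : Type u := {x : G // x ∈ (S : Subgroup G) ∧ x ≠ 1}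
  have hA7 : Nat.card A = 7 := by
    rw [show Nat.card A = ((((S : Subgroup G) : Set G)) \ {1}).ncard from (Nat.card_coe_set_eq _).symm.trans rfl,
      Set.ncard_sdiff_singleton_of_mem (one_mem _), ← Nat.card_coe_set_eq,
      show Nat.card ((S : Subgroup G) : Set G) = 8 from hE.1]
  letI act : MulAction ↥NS A :=
    { smul := fun m x => ⟨(m : G) * x.1 * (m : G)⁻¹, (Subgroup.mem_normalizer_iff.mp m.2 _).mp x.2.1,
        fun e => x.2.2 (conj_eq_one_iff.mp e)⟩
      one_smul := fun x => Subtype.ext (by show ((1 : ↥NS) : G) * x.1 * ((1 : ↥NS) : G)⁻¹ = x.1; simp)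
      mul_smul := fun m m' x => Subtype.ext (by
        show ((m * m' : ↥NS) : G) * x.1 * ((m * m' : ↥NS) : G)⁻¹ = (m : G) * ((m' : G) * x.1 * (m' : G)⁻¹) * (m : G)⁻¹
        rw [Subgroup.coe_mul]; group) }
  let tA : A := ⟨C.t, Fr.t_mem, C.t_ne⟩
  haveI : MulAction.IsPretransitive ↥NS A := ⟨fun x y => by
    obtain ⟨m, hm, hme⟩ := B.trans S x.2.1 y.2.1 x.2.2 y.2.2
    exact ⟨⟨m, hm⟩, Subtype.ext hme⟩⟩
  have hstab : Nat.card (MulAction.stabilizer ↥NS tA) ∣ 24 * 7 ^ a := by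
    rw [← card_cst B h, ← Subgroup.card_map_of_injective NS.subtype_injective]
    refine Subgroup.card_dvd_of_le ?_
    rintro _ ⟨m, hm, rfl⟩
    exact ⟨hN m.2, Subgroup.mem_centralizer_singleton_iff.mpr
      (mul_inv_eq_iff_eq_mul.mp (congrArg Subtype.val hm : (m : G) * C.t * (m : G)⁻¹ = C.t))⟩
  have hcardN : Nat.card NS ∣ 7 * (24 * 7 ^ a) := by
    rw [← (MulAction.stabilizer ↥NS tA).index_mul_card, MulAction.index_stabilizer_of_transitive ↥NS tA, hA7]
    exact Nat.mul_dvd_mul_left 7 hstab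
  have h7a : 7 ^ (a + 1) ∣ Nat.card NS := by
    rw [← (MulAction.stabilizer ↥NS tA).index_mul_card, MulAction.index_stabilizer_of_transitive ↥NS tA, hA7, pow_succ',
      ← φ_card h, ← Subgroup.card_map_of_injective (f := NS.subtype) NS.subtype_injective (K := MulAction.stabilizer ↥NS tA)]
    refine Nat.mul_dvd_mul_left 7 (Subgroup.card_dvd_of_le (Subgroup.zpowers_le.mpr ⟨⟨C.φ, hφNS⟩, ?_, rfl⟩))
    exact Subtype.ext (show C.φ * C.t * C.φ⁻¹ = C.t by rw [C.t_φ.symm.eq, mul_inv_cancel_right])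
  have hSylH : ∀ Q : Subgroup G, Q ≤ H → IsPGroup 7 Q → Nat.card Q ≤ 7 ^ (a + 1) := by
    intro Q hQH hQ
    obtain ⟨k, hk⟩ := IsPGroup.iff_card.mp hQ
    rw [hk]
    refine Nat.pow_le_pow_right (by norm_num) ?_
    by_contra hlt
    have hd : 7 ^ (a + 2) ∣ 7 ^ a * (24 * N) := by
      rw [show 7 ^ a * (24 * N) = 24 * 7 ^ a * N by ring, ← hcardH]
      exact (pow_dvd_pow 7 (by omega)).trans (hk ▸ Subgroup.card_dvd_of_le hQH)
    rw [pow_add] at hd
    exact hN49 ((show Nat.Coprime (7 ^ 2) 24 by norm_num).dvd_of_dvd_mul_left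
      (Nat.dvd_of_mul_dvd_mul_left (pow_pos (by norm_num) a) hd))
  -- a Sylow subgroup of `N(S)`
  obtain ⟨R'⟩ : Nonempty (Sylow 7 ↥NS) := inferInstance
  set R := (R' : Subgroup ↥NS).map NS.subtype with hRdef
  have hRp : IsPGroup 7 R := R'.2.map _
  have hRH : R ≤ H := (Subgroup.map_subtype_le _).trans hN
  have hRcard : Nat.card R = 7 ^ (a + 1) := by
    refine le_antisymm (hSylH R hRH hRp) (Nat.le_of_dvd Nat.card_pos ?_)
    rw [Subgroup.card_map_of_injective NS.subtype_injective]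
    exact R'.pow_dvd_card_of_pow_dvd_card h7a
  have hφR : C.φ ∈ R := by
    obtain ⟨T, hT⟩ := (IsPGroup.of_card (n := a) (by rw [Nat.card_zpowers, Subgroup.orderOf_mk, C.φ_ord, h.ord]) :
      IsPGroup 7 (Subgroup.zpowers (⟨C.φ, hφNS⟩ : ↥NS))).exists_le_sylow
    obtain ⟨m, hm⟩ := MulAction.exists_smul_eq ↥NS T R'
    refine ⟨⟨C.φ, hφNS⟩, ?_, rfl⟩
    rw [← hm, Sylow.coe_subgroup_smul]
    refine ⟨⟨C.φ, hφNS⟩, hT (Subgroup.mem_zpowers _), Subtype.ext ?_⟩
    show (m : G) * C.φ * (m : G)⁻¹ = C.φ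
    rw [(φ_comm_cs (hN m.2)).eq, mul_inv_cancel_right]
  have hΦR : Subgroup.zpowers C.φ ≤ R := Subgroup.zpowers_le.mpr hφR
  have hRcomm : ∀ x ∈ R, ∀ y ∈ R, Commute x y := by
    have hcen : (Subgroup.zpowers C.φ).subgroupOf R ≤ Subgroup.center ↥R := by
      rintro z ⟨i, hi⟩
      refine Subgroup.mem_center_iff.mpr fun y => Subtype.ext ?_
      have hi' : C.φ ^ i = (z : G) := hi
      show (y : G) * (z : G) = (z : G) * y
      rw [← hi']
      exact ((φ_comm_cs (hRH y.2)).zpow_right i).eq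
    have hidx : ((Subgroup.zpowers C.φ).subgroupOf R).index = 7 := by
      have h1 := ((Subgroup.zpowers C.φ).subgroupOf R).index_mul_card
      rw [Nat.card_congr (Subgroup.subgroupOfEquivOfLe hΦR).toEquiv, φ_card h, hRcard, pow_succ'] at h1
      exact Nat.eq_of_mul_eq_mul_right (pow_pos (by norm_num) a) h1
    haveI : ((Subgroup.zpowers C.φ).subgroupOf R).Normal := ⟨fun z hz y => by
      rw [Subgroup.mem_center_iff.mp (hcen hz) y, mul_inv_cancel_right]; exact hz⟩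
    haveI : IsCyclic (↥R ⧸ (Subgroup.zpowers C.φ).subgroupOf R) :=
      isCyclic_of_prime_card (p := 7) (by rw [← Subgroup.index_eq_card, hidx])
    intro x hx y hy
    exact congrArg Subtype.val (commutative_of_cyclic_center_quotient
      (QuotientGroup.mk' ((Subgroup.zpowers C.φ).subgroupOf R)) (by rw [QuotientGroup.ker_mk']; exact hcen) ⟨x, hx⟩ ⟨y, hy⟩)
  -- an element of order three normalising it
  obtain ⟨g₁, hg₁o, hg₁R⟩ : ∃ g₁ : ↥NS, orderOf g₁ = 3 ∧ g₁ ∈ Subgroup.normalizer ((R' : Subgroup ↥NS) : Set ↥NS) := by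
    have h3 : 3 ∣ Nat.card NS := by
      have ho : orderOf (C.ι g₀) = 3 := orderOf_eq_prime (by rw [← map_pow, Fr.a4.g3, map_one])
        fun e => Fr.a4.g1 (C.ι_inj (e.trans (map_one _).symm))
      exact ho ▸ Subgroup.orderOf_dvd_natCard _ Fr.g_norm
    have hidx : (R' : Subgroup ↥NS).index ∣ 24 := by
      have h1 := (R' : Subgroup ↥NS).index_mul_card
      rw [show Nat.card (R' : Subgroup ↥NS) = 7 ^ (a + 1) by
        rw [← hRcard, hRdef, Subgroup.card_map_of_injective NS.subtype_injective]] at h1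
      refine Nat.dvd_of_mul_dvd_mul_right (pow_pos (show 0 < 7 by norm_num) (a + 1)) ?_
      rw [h1, show 24 * 7 ^ (a + 1) = 7 * (24 * 7 ^ a) by ring]
      exact hcardN
    have hn3 : ¬ 3 ∣ (Subgroup.normalizer ((R' : Subgroup ↥NS) : Set ↥NS)).index := by
      intro hd
      have hmod := card_sylow_modEq_one 7 ↥NS
      rw [R'.card_eq_index_normalizer] at hmod
      have hdd : (Subgroup.normalizer ((R' : Subgroup ↥NS) : Set ↥NS)).index ∣ 24 :=
        (Subgroup.index_dvd_of_le Subgroup.le_normalizer).trans hidx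
      have hm : (Subgroup.normalizer ((R' : Subgroup ↥NS) : Set ↥NS)).index ∈ Nat.divisors 24 :=
        Nat.mem_divisors.mpr ⟨hdd, by norm_num⟩
      generalize (Subgroup.normalizer ((R' : Subgroup ↥NS) : Set ↥NS)).index = d at hm hmod hd
      revert hm hmod hd
      rw [show Nat.divisors 24 = {1, 2, 3, 4, 6, 8, 12, 24} by decide +kernel]
      simp only [Finset.mem_insert, Finset.mem_singleton]
      intro hm hmod hd
      rcases hm with rfl | rfl | rfl | rfl | rfl | rfl | rfl | rfl <;> revert hd hmod <;> decide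
    have h3' : 3 ∣ Nat.card (Subgroup.normalizer ((R' : Subgroup ↥NS) : Set ↥NS)) := by
      have hm := (Subgroup.normalizer ((R' : Subgroup ↥NS) : Set ↥NS)).index_mul_card
      rw [← hm] at h3
      exact ((Nat.prime_three.dvd_mul).mp h3).resolve_left hn3
    obtain ⟨z, hz⟩ := exists_prime_orderOf_dvd_card' 3 h3'
    exact ⟨z, by rw [Subgroup.orderOf_coe, hz], z.2⟩
  have hg₁H : (g₁ : G) ∈ H := hN g₁.2
  have hgconj : ∀ x ∈ R, (g₁ : G) * x * (g₁ : G)⁻¹ ∈ R := by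
    rintro _ ⟨x, hx, rfl⟩
    exact ⟨g₁ * x * g₁⁻¹, (Subgroup.mem_normalizer_iff.mp hg₁R x).mp hx, rfl⟩
  -- the centraliser of `S`
  have hCS : ∀ x ∈ Subgroup.centralizer ((S : Subgroup G) : Set G), Odd (orderOf x) → x ∈ Subgroup.zpowers C.φ := by
    intro x hx ho
    obtain ⟨s, hs, j, rfl⟩ := Fr.cent x hx
    suffices s = 1 by rw [this, one_mul]; exact Subgroup.pow_mem _ (Subgroup.mem_zpowers _) j
    have hc : Commute s (C.φ ^ j) := (show Commute s C.φ from φ_comm_cs (hSH hs)).pow_right j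
    obtain ⟨d, hd⟩ := ho
    have h1 : s ^ (2 * d + 1) * (C.φ ^ j) ^ (2 * d + 1) = 1 := by
      rw [← hc.mul_pow, ← hd, pow_orderOf_eq_one]
    rw [pow_succ s, pow_mul, pow_two, hE.2 s hs, one_pow, one_mul] at h1
    have h2 : s = ((C.φ ^ j) ^ (2 * d + 1))⁻¹ := eq_inv_of_mul_eq_one_left h1
    refine eq_one_of_odd_sylow (E := Subgroup.zpowers C.φ) ?_ ?_ hs
    · rw [Nat.card_zpowers, C.φ_ord]; exact C.odd_f
    · rw [h2]; exact inv_mem (Subgroup.pow_mem _ (Subgroup.pow_mem _ (Subgroup.mem_zpowers _) j) _)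
  -- `g₁` does not centralise `R`
  obtain ⟨x, hx, hxΦ⟩ : ∃ x ∈ R, x ∉ Subgroup.zpowers C.φ := by
    by_contra hcon
    push Not at hcon
    have := Subgroup.card_le_of_le (show R ≤ Subgroup.zpowers C.φ from hcon)
    rw [hRcard, φ_card h, pow_succ] at this
    have := pow_pos (show 0 < 7 by norm_num) a
    omega
  have hx7 : x ^ 7 ∈ Subgroup.zpowers C.φ := by
    have h1 := ((Subgroup.zpowers C.φ).subgroupOf R).index_mul_card
    rw [Nat.card_congr (Subgroup.subgroupOfEquivOfLe hΦR).toEquiv, φ_card h, hRcard, pow_succ'] at h1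
    have hi : ((Subgroup.zpowers C.φ).subgroupOf R).index = 7 := Nat.eq_of_mul_eq_mul_right (pow_pos (by norm_num) a) h1
    haveI : ((Subgroup.zpowers C.φ).subgroupOf R).Normal := ⟨fun z hz y => by
      show (y : G) * (z : G) * (y : G)⁻¹ ∈ Subgroup.zpowers C.φ
      rw [(hRcomm _ y.2 _ z.2).eq, mul_inv_cancel_right]; exact hz⟩
    have h2 := pow_card_eq_one' (x := ((⟨x, hx⟩ : ↥R) : ↥R ⧸ (Subgroup.zpowers C.φ).subgroupOf R))
    rw [← Subgroup.index_eq_card, hi, ← QuotientGroup.mk_pow] at h2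
    have h3 := (QuotientGroup.eq_one_iff _).mp h2
    exact h3
  have hnc : ¬ Commute (g₁ : G) x := by
    intro hc
    obtain ⟨e, he⟩ := R'.2 ⟨⟨x, (Subgroup.map_subtype_le _ hx)⟩, by
      obtain ⟨z, hz, hze⟩ := hx
      rwa [show (⟨x, _⟩ : ↥NS) = z from Subtype.ext hze.symm]⟩
    -- `g₁` fixes an involution of `S`, and `x` moves it around
    haveI : Finite A := Nat.finite_of_card_ne_zero (by rw [hA7]; norm_num)
    have hzp : IsPGroup 3 (Subgroup.zpowers g₁) := IsPGroup.of_card (n := 1) (by rw [Nat.card_zpowers, hg₁o, pow_one])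
    have hfix := hzp.card_modEq_card_fixedPoints A
    obtain ⟨⟨s₀, hs₀⟩⟩ : Nonempty (MulAction.fixedPoints (Subgroup.zpowers g₁) A) := by
      refine (Finite.card_pos_iff).mp ?_
      rcases Nat.eq_zero_or_pos (Nat.card (MulAction.fixedPoints (Subgroup.zpowers g₁) A)) with e' | e'
      · rw [hA7, e'] at hfix; exact absurd hfix (by decide)
      · exact e'
    set xN : ↥NS := ⟨x, Subgroup.map_subtype_le _ hx⟩
    have hx7p : IsPGroup 7 (Subgroup.zpowers xN) := by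
      obtain ⟨i, -, hi⟩ := (Nat.dvd_prime_pow (by norm_num : Nat.Prime 7)).mp (orderOf_dvd_of_pow_eq_one
        (congrArg Subtype.val he))
      exact IsPGroup.of_card (n := i) (by rw [Nat.card_zpowers, hi])
    obtain ⟨i, hi⟩ := hx7p.card_orbit s₀
    have horb : MulAction.orbit (Subgroup.zpowers xN) s₀ = Set.univ := by
      rcases i with _ | i
      · exfalso
        -- a trivial orbit: `x` fixes every point
        haveI := (Nat.card_eq_one_iff_unique.mp (hi.trans (pow_zero 7))).1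
        have hfx : ∀ s : A, xN • s = s := by
          intro s
          have hfix7 := hx7p.card_modEq_card_fixedPoints A
          rw [hA7] at hfix7
          have hmem : s₀ ∈ MulAction.fixedPoints (Subgroup.zpowers xN) A := fun z =>
            congrArg Subtype.val (Subsingleton.elim (⟨z • s₀, MulAction.mem_orbit _ z⟩ :
              MulAction.orbit (Subgroup.zpowers xN) s₀) ⟨s₀, MulAction.mem_orbit_self _⟩)
          have hge : 7 ≤ Nat.card (MulAction.fixedPoints (Subgroup.zpowers xN) A) := by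
            have hpos : 0 < Nat.card (MulAction.fixedPoints (Subgroup.zpowers xN) A) :=
              Finite.card_pos_iff.mpr ⟨⟨s₀, hmem⟩⟩
            by_contra hlt
            rw [Nat.ModEq, Nat.mod_eq_of_lt (by omega : Nat.card (MulAction.fixedPoints (Subgroup.zpowers xN) A) < 7)] at hfix7
            omega
          have htop : MulAction.fixedPoints (Subgroup.zpowers xN) A = Set.univ := Set.eq_of_subset_of_ncard_le
            (Set.subset_univ _) (by rw [Set.ncard_univ, hA7, ← Nat.card_coe_set_eq]; exact hge) (Set.toFinite _)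
          exact (htop ▸ Set.mem_univ s : s ∈ MulAction.fixedPoints (Subgroup.zpowers xN) A) ⟨xN, Subgroup.mem_zpowers _⟩
        refine hxΦ (hCS x (fun s hs => ?_) ?_)
        · by_cases hs1 : s = 1
          · rw [hs1, one_mul, mul_one]
          · exact (mul_inv_eq_iff_eq_mul.mp (congrArg Subtype.val (hfx ⟨s, hs, hs1⟩))).symm
        · obtain ⟨k', -, hk'⟩ := (Nat.dvd_prime_pow (by norm_num : Nat.Prime 7)).mp (orderOf_dvd_of_pow_eq_one
            (show x ^ 7 ^ e = 1 from congrArg (fun z : ↥(R' : Subgroup ↥NS) => ((z : ↥NS) : G)) he))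
          rw [hk']; exact Odd.pow (by decide)
      · refine Set.eq_of_subset_of_ncard_le (Set.subset_univ _) ?_ (Set.toFinite _)
        rw [Set.ncard_univ, hA7, ← Nat.card_coe_set_eq, hi]
        exact Nat.le_self_pow (Nat.succ_ne_zero i) 7
    have hgs : ∀ s : A, g₁ • s = s := by
      intro s
      obtain ⟨⟨z, l, hl⟩, rfl⟩ := (horb ▸ Set.mem_univ s : s ∈ MulAction.orbit (Subgroup.zpowers xN) s₀)
      show g₁ • z • s₀ = z • s₀
      have hcN : Commute g₁ xN := Subtype.ext hc.eq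
      rw [← hl, smul_smul, (hcN.zpow_right l).eq, ← smul_smul]
      exact congrArg _ (hs₀ ⟨g₁, Subgroup.mem_zpowers _⟩)
    have hmem := hCS (g₁ : G) (fun s hs => by
      by_cases hs1 : s = 1
      · rw [hs1, one_mul, mul_one]
      · exact (mul_inv_eq_iff_eq_mul.mp (congrArg Subtype.val (hgs ⟨s, hs, hs1⟩))).symm)
      (by rw [Subgroup.orderOf_coe, hg₁o]; decide)
    have hd := Subgroup.orderOf_dvd_natCard _ hmem
    rw [φ_card h, Subgroup.orderOf_coe, hg₁o] at hd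
    exact absurd (Nat.prime_three.dvd_of_dvd_pow hd) (by norm_num)
  -- the element `n`
  set n := x⁻¹ * ((g₁ : G) * x * (g₁ : G)⁻¹) with hn
  have hnR : n ∈ R := mul_mem (inv_mem hx) (hgconj x hx)
  have hgφ : (g₁ : G) * C.φ * (g₁ : G)⁻¹ = C.φ := by
    rw [(φ_comm_cs hg₁H).eq, mul_inv_cancel_right]
  have hgΦ : ∀ z ∈ Subgroup.zpowers C.φ, (g₁ : G) * z * (g₁ : G)⁻¹ = z := by
    rintro _ ⟨i, rfl⟩
    show (g₁ : G) * C.φ ^ i * (g₁ : G)⁻¹ = C.φ ^ i
    rw [← conj_zpow, hgφ]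
  have hn7 : n ^ 7 = 1 := by
    rw [hn, ((hRcomm _ (inv_mem hx) _ (hgconj x hx))).mul_pow, conj_pow, hgΦ _ hx7, inv_pow, inv_mul_cancel]
  have hg3 : (g₁ : G) ^ 3 = 1 := by
    rw [← Subgroup.coe_pow, show g₁ ^ 3 = 1 by rw [← hg₁o]; exact pow_orderOf_eq_one g₁, Subgroup.coe_one]
  have hnΦ : n ∉ Subgroup.zpowers C.φ := by
    intro hmem
    have e1 : (g₁ : G) * x * (g₁ : G)⁻¹ = x * n := by rw [hn, mul_inv_cancel_left]
    have e3 : ∀ k : ℕ, (g₁ : G) ^ k * x * ((g₁ : G) ^ k)⁻¹ = x * n ^ k := by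
      intro k
      induction k with
      | zero => simp
      | succ k ih =>
        rw [pow_succ' (g₁ : G), show (g₁ : G) * (g₁ : G) ^ k * x * ((g₁ : G) * (g₁ : G) ^ k)⁻¹ =
          (g₁ : G) * ((g₁ : G) ^ k * x * ((g₁ : G) ^ k)⁻¹) * (g₁ : G)⁻¹ by group, ih, ← conj_mul, e1,
          hgΦ _ (Subgroup.pow_mem _ hmem k), pow_succ', mul_assoc]
    have h3 := e3 3
    rw [hg3, inv_one, mul_one, one_mul] at h3
    have hn3 : n ^ 3 = 1 := mul_eq_left.mp h3.symm
    have hn1 : n = 1 := by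
      rw [← orderOf_eq_one_iff]
      exact Nat.eq_one_of_dvd_coprimes (by norm_num : Nat.Coprime 7 3) (orderOf_dvd_of_pow_eq_one hn7)
        (orderOf_dvd_of_pow_eq_one hn3)
    refine hnc (mul_inv_eq_iff_eq_mul.mp ?_)
    rw [e1, hn1, mul_one]
  have hnord : orderOf n = 7 := orderOf_eq_prime hn7 fun e => hnΦ (e ▸ one_mem _)
  -- `R = ⟨φ, n⟩`, and `g₁` acts on `⟨n⟩`
  have hgen : ∀ z ∈ R, z ∈ Subgroup.zpowers C.φ ⊔ Subgroup.zpowers n := by
    have hle : Subgroup.zpowers C.φ ⊔ Subgroup.zpowers n ≤ R := sup_le hΦR (Subgroup.zpowers_le.mpr hnR)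
    have heq : Subgroup.zpowers C.φ ⊔ Subgroup.zpowers n = R := by
      refine Subgroup.eq_of_le_of_card_ge hle ?_
      obtain ⟨k, hk⟩ := IsPGroup.iff_card.mp (hRp.to_le hle)
      rw [hRcard, hk]
      refine Nat.pow_le_pow_right (by norm_num) ?_
      by_contra hlt
      refine hnΦ ?_
      have hc : Nat.card ↥(Subgroup.zpowers C.φ ⊔ Subgroup.zpowers n) ≤ Nat.card (Subgroup.zpowers C.φ) := by
        rw [hk, φ_card h]; exact Nat.pow_le_pow_right (by norm_num) (by omega)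
      rw [Subgroup.eq_of_le_of_card_ge le_sup_left hc]
      exact Subgroup.mem_sup_right (Subgroup.mem_zpowers n)
    intro z hz
    rwa [heq]
  obtain ⟨e, hge⟩ : ∃ e : ℕ, (g₁ : G) * n * (g₁ : G)⁻¹ = n ^ e := by
    -- `z ↦ z⁻¹ g z g⁻¹` on `R` has values in `⟨n⟩`
    let cm : ↥R →* G := MonoidHom.mk' (fun z => (z : G)⁻¹ * ((g₁ : G) * z * (g₁ : G)⁻¹)) fun y z => by
      show ((y * z : ↥R) : G)⁻¹ * ((g₁ : G) * ((y * z : ↥R) : G) * (g₁ : G)⁻¹) = _
      rw [Subgroup.coe_mul, ← conj_mul, _root_.mul_inv_rev]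
      calc (z : G)⁻¹ * (y : G)⁻¹ * ((g₁ : G) * y * (g₁ : G)⁻¹ * ((g₁ : G) * z * (g₁ : G)⁻¹))
          = (z : G)⁻¹ * ((y : G)⁻¹ * ((g₁ : G) * y * (g₁ : G)⁻¹)) * ((g₁ : G) * z * (g₁ : G)⁻¹) := by group
        _ = _ := by
          rw [(hRcomm _ (inv_mem z.2) _ (mul_mem (inv_mem y.2) (hgconj _ y.2))).eq, mul_assoc]
    obtain ⟨k, hk⟩ : cm ⟨(g₁ : G) * x * (g₁ : G)⁻¹, hgconj x hx⟩ ∈ Subgroup.zpowers n := by
      suffices hall : ∀ z : ↥R, cm z ∈ Subgroup.zpowers n from hall _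
      have hmul : (⊤ : Subgroup ↥R) ≤ (Subgroup.zpowers n).comap cm := by
        have hidx : ((Subgroup.zpowers C.φ).subgroupOf R).index = 7 := by
          have h1 := ((Subgroup.zpowers C.φ).subgroupOf R).index_mul_card
          rw [Nat.card_congr (Subgroup.subgroupOfEquivOfLe hΦR).toEquiv, φ_card h, hRcard, pow_succ'] at h1
          exact Nat.eq_of_mul_eq_mul_right (pow_pos (by norm_num) a) h1
        set K := (Subgroup.zpowers n).comap cm
        have hΦK : (Subgroup.zpowers C.φ).subgroupOf R ≤ K := fun z hz => by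
          show (z : G)⁻¹ * ((g₁ : G) * z * (g₁ : G)⁻¹) ∈ Subgroup.zpowers n
          rw [hgΦ (z : G) hz, inv_mul_cancel]; exact one_mem _
        have hxK : (⟨x, hx⟩ : ↥R) ∈ K := Subgroup.mem_zpowers n
        rcases (Nat.dvd_prime (by norm_num : Nat.Prime 7)).mp (hidx ▸ Subgroup.index_dvd_of_le hΦK) with e' | e'
        · exact (Subgroup.index_eq_one.mp e').ge
        · exfalso
          have := Subgroup.eq_of_le_of_card_ge hΦK (by
            have h1 := K.index_mul_card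
            have h2 := ((Subgroup.zpowers C.φ).subgroupOf R).index_mul_card
            rw [hidx] at h2; rw [e'] at h1
            omega)
          exact hxΦ (this ▸ hxK : (⟨x, hx⟩ : ↥R) ∈ (Subgroup.zpowers C.φ).subgroupOf R)
      exact fun z => hmul (Subgroup.mem_top z)
    obtain ⟨e, he⟩ := (isOfFinOrder_of_finite n).mem_powers_iff_mem_zpowers.mpr
      (Subgroup.zpow_mem _ (Subgroup.mem_zpowers n) k)
    refine ⟨e, ?_⟩
    show _ = n ^ e
    rw [show n ^ e = n ^ k from he, show n ^ k = cm ⟨(g₁ : G) * x * (g₁ : G)⁻¹, hgconj x hx⟩ from hk]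
    show (g₁ : G) * (x⁻¹ * ((g₁ : G) * x * (g₁ : G)⁻¹)) * (g₁ : G)⁻¹ =
      ((g₁ : G) * x * (g₁ : G)⁻¹)⁻¹ * ((g₁ : G) * ((g₁ : G) * x * (g₁ : G)⁻¹) * (g₁ : G)⁻¹)
    group
  have hRn : ∀ z ∈ R, ∀ y : G, y ∈ H → Commute y n → Commute y z := by
    intro z hz y hy hyn
    refine (Subgroup.mem_centralizer_singleton_iff.mp
      ((sup_le (Subgroup.zpowers_le.mpr ?_) (Subgroup.zpowers_le.mpr ?_) :
        Subgroup.zpowers C.φ ⊔ Subgroup.zpowers n ≤ Subgroup.centralizer ({y} : Set G)) (hgen z hz))).symm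
    · exact Subgroup.mem_centralizer_singleton_iff.mpr (φ_comm_cs hy).symm.eq
    · exact Subgroup.mem_centralizer_singleton_iff.mpr hyn.symm.eq
  have hnH : n ∈ H := hRH hnR
  -- an involution of `C(φ)` does not centralise `n`
  have hinv : ∀ v ∈ H, orderOf v = 2 → ¬ Commute v n := by
    intro v hv hv2 hvn
    obtain ⟨w, hw, hwv⟩ := cent_pow_conj B C (1 : ℤ) hv2 (by rw [zpow_one]; exact φ_comm_cs hv)
    rw [zpow_one] at hw
    have h1 : w⁻¹ * n * w ∈ C.Cs 1 ⊓ C.Ct := by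
      refine ⟨mul_mem (mul_mem (Subgroup.inv_mem _ (mem_cs hw)) hnH) (mem_cs hw), Subgroup.mem_centralizer_singleton_iff.mpr ?_⟩
      calc w⁻¹ * n * w * C.t = w⁻¹ * (n * (w * C.t * w⁻¹)) * w := by group
        _ = w⁻¹ * ((w * C.t * w⁻¹) * n) * w := by rw [hwv, hvn.symm.eq]
        _ = C.t * (w⁻¹ * n * w) := by group
    obtain ⟨i, hi⟩ := seven_cst B h h1 (k := 1) (by
      rw [pow_one]
      have := conj_pow (a := w⁻¹) (b := n) (i := 7)
      rw [inv_inv] at this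
      rw [this, hn7, mul_one, inv_mul_cancel])
    refine hnΦ ⟨i, ?_⟩
    have hi' : C.φ ^ i = w⁻¹ * n * w := hi
    show C.φ ^ i = n
    calc C.φ ^ i = C.φ ^ i * w * w⁻¹ := by group
      _ = w * C.φ ^ i * w⁻¹ := by rw [(hw.zpow_right i).eq]
      _ = n := by rw [hi']; group
  -- no element of order prime to seven centralises `n`
  have hcent : ∀ y ∈ H, Commute y n → ∀ l : ℕ, l.Prime → l ≠ 7 → orderOf y ≠ l := by
    intro y hy hyn l hl hl7 hyl
    by_cases hl2 : l = 2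
    · exact hinv y hy (hl2 ▸ hyl) hyn
    have hl3 : l = 3 := by
      have hd : l ∣ 24 * 7 ^ a * 63 := by
        rw [← hyl]
        exact (Subgroup.orderOf_dvd_natCard _ hy).trans (hcardH ▸ Nat.mul_dvd_mul_left _ hN63)
      rcases hl.dvd_mul.mp hd with h1 | h1
      · rcases hl.dvd_mul.mp h1 with h2 | h2
        · rcases hl.dvd_mul.mp (show l ∣ 2 ^ 3 * 3 from h2) with h3 | h3
          · exact absurd ((Nat.prime_dvd_prime_iff_eq hl Nat.prime_two).mp (hl.dvd_of_dvd_pow h3)) hl2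
          · exact (Nat.prime_dvd_prime_iff_eq hl Nat.prime_three).mp h3
        · exact absurd ((Nat.prime_dvd_prime_iff_eq hl (by norm_num)).mp (hl.dvd_of_dvd_pow h2)) hl7
      · rcases hl.dvd_mul.mp (show l ∣ 3 ^ 2 * 7 from h1) with h2 | h2
        · exact (Nat.prime_dvd_prime_iff_eq hl Nat.prime_three).mp (hl.dvd_of_dvd_pow h2)
        · exact absurd ((Nat.prime_dvd_prime_iff_eq hl (by norm_num)).mp h2) hl7
    subst hl3
    set yH : ↥H := ⟨y, hy⟩
    set gH : ↥H := ⟨g₁, hg₁H⟩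
    let RH : Sylow 7 ↥H := (hRp.of_equiv (Subgroup.subgroupOfEquivOfLe hRH).symm).toSylow (by
      intro hd
      have h1 := (R.subgroupOf H).index_mul_card
      obtain ⟨d, hd'⟩ := hd
      obtain ⟨N', rfl⟩ := hN7
      rw [Nat.card_congr (Subgroup.subgroupOfEquivOfLe hRH).toEquiv, hRcard, hd', hcardH, pow_succ] at h1
      have h2 : 7 * d = 24 * N' := Nat.eq_of_mul_eq_mul_right (show 0 < 7 ^ a * 7 by positivity) (by rw [h1]; ring)
      have : 7 ∣ N' := ((show Nat.Coprime 7 24 by norm_num).dvd_of_dvd_mul_left ⟨d, h2.symm⟩)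
      exact hN49 (by obtain ⟨c', rfl⟩ := this; exact ⟨c', by ring⟩))
    set NR := Subgroup.normalizer ((RH : Subgroup ↥H) : Set ↥H) with hNR
    have hRcent : ∀ z ∈ (RH : Subgroup ↥H), Commute yH z := fun z hz => Subtype.ext (hRn _ hz y hy hyn).eq
    have hyNR : yH ∈ NR := Subgroup.centralizer_le_normalizer _ fun z hz => (hRcent z hz).eq.symm
    have hgNR : gH ∈ NR := by
      refine Subgroup.mem_normalizer_fintype fun z hz => ?_
      exact hgconj _ hz
    -- no involution normalises `R` with all of `S`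
    have hnotS : ¬ ((S : Subgroup G).subgroupOf H ≤ NR) := by
      intro hle
      have ht : (⟨C.t, C.t_mem_Cs 1⟩ : ↥H) ∈ NR := hle Fr.t_mem
      have hnS : n ∈ NS := Subgroup.map_subtype_le _ hnR
      have h1 : C.t * n * C.t⁻¹ * n⁻¹ ∈ R ⊓ (S : Subgroup G) := by
        refine ⟨mul_mem ((Subgroup.mem_normalizer_iff.mp ht ⟨n, hnH⟩).mp (show n ∈ R from hnR)) (R.inv_mem hnR), ?_⟩
        rw [show C.t * n * C.t⁻¹ * n⁻¹ = C.t * (n * C.t⁻¹ * n⁻¹) by group]
        exact mul_mem Fr.t_mem ((Subgroup.mem_normalizer_iff.mp hnS _).mp ((S : Subgroup G).inv_mem Fr.t_mem))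
      have h2 : C.t * n * C.t⁻¹ * n⁻¹ = 1 := eq_one_of_odd_sylow (E := R) (by rw [hRcard]; exact Odd.pow (by decide)) h1.1 h1.2
      exact hinv C.t (C.t_mem_Cs 1) C.t_ord (mul_inv_eq_iff_eq_mul.mp (mul_inv_eq_one.mp h2))
    have hidx : NR.index ∣ 24 * (N / 7) := by
      refine (Subgroup.index_dvd_of_le Subgroup.le_normalizer).trans (dvd_of_eq ?_)
      have h1 := (RH : Subgroup ↥H).index_mul_card
      rw [show Nat.card (RH : Subgroup ↥H) = 7 ^ (a + 1) from
        (Nat.card_congr (Subgroup.subgroupOfEquivOfLe hRH).toEquiv).trans hRcard, hcardH] at h1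
      obtain ⟨N', rfl⟩ := hN7
      rw [Nat.mul_div_cancel_left _ (by norm_num : 0 < 7)]
      refine Nat.eq_of_mul_eq_mul_right (show 0 < 7 ^ (a + 1) by positivity) ?_
      rw [h1]; ring
    have hn8 : NR.index = 8 ∨ NR.index = 36 := by
      have hmod := card_sylow_modEq_one 7 ↥H
      rw [RH.card_eq_index_normalizer] at hmod
      have hN9 : N / 7 ∣ 9 := by
        obtain ⟨N', rfl⟩ := hN7
        rw [Nat.mul_div_cancel_left _ (by norm_num : 0 < 7)]
        exact Nat.dvd_of_mul_dvd_mul_left (show 0 < 7 by norm_num) hN63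
      have h216 : NR.index ∈ Nat.divisors 216 :=
        Nat.mem_divisors.mpr ⟨hidx.trans (Nat.mul_dvd_mul_left 24 hN9), by norm_num⟩
      have hne1 : NR.index ≠ 1 := fun e1 => hnotS (by rw [Subgroup.index_eq_one.mp e1]; exact le_top)
      generalize hd : NR.index = d at h216 hmod hne1
      rw [show Nat.divisors 216 = {1, 2, 3, 4, 6, 8, 9, 12, 18, 24, 27, 36, 54, 72, 108, 216} by decide +kernel] at h216
      simp only [Finset.mem_insert, Finset.mem_singleton] at h216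
      rcases h216 with rfl | rfl | rfl | rfl | rfl | rfl | rfl | rfl | rfl | rfl | rfl | rfl | rfl | rfl | rfl | rfl
      all_goals first | omega | exact absurd hmod (by decide)
    rcases hn8 with h8 | h36
    · -- eight Sylow subgroups: `y` fixes them all
      letI : Fintype (Sylow 7 ↥H) := Fintype.ofFinite _
      have hc8 : Nat.card (Sylow 7 ↥H) = 8 := RH.card_eq_index_normalizer.trans h8
      set nH : ↥H := ⟨n, hnH⟩
      have hnp : IsPGroup 7 (Subgroup.zpowers nH) :=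
        IsPGroup.of_card (n := 1) (by rw [Nat.card_zpowers, Subgroup.orderOf_mk, hnord, pow_one])
      have hgenH : ∀ z ∈ (RH : Subgroup ↥H), ∃ i j : ℤ, (z : G) = C.φ ^ i * n ^ j := by
        intro z hz
        have hnorm : Subgroup.zpowers C.φ ≤ Subgroup.normalizer (Subgroup.zpowers n : Set G) :=
          Subgroup.zpowers_le.mpr (Subgroup.centralizer_le_normalizer _ fun w hw => by
            obtain ⟨j, rfl⟩ := hw
            exact (((φ_comm_cs hnH).zpow_left j).eq))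
        have h1 := hgen _ hz
        rw [← SetLike.mem_coe, Subgroup.coe_mul_of_left_le_normalizer_right _ _ hnorm] at h1
        obtain ⟨_, ⟨i, rfl⟩, _, ⟨j, rfl⟩, e'⟩ := h1
        exact ⟨i, j, e'.symm⟩
      -- `n` fixes only `RH`
      have honly : ∀ P : Sylow 7 ↥H, nH • P = P → P = RH := by
        intro P hP
        have hle : (RH : Subgroup ↥H) ≤ Subgroup.normalizer ((P : Subgroup ↥H) : Set ↥H) := by
          intro z hz
          obtain ⟨i, j, hz'⟩ := hgenH z hz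
          have hzeq : z = ⟨C.φ, C.φ_mem_Cs 1⟩ ^ i * nH ^ j := Subtype.ext (by simpa [nH] using hz')
          rw [hzeq]
          refine mul_mem (Subgroup.zpow_mem _ ?_ i) (Subgroup.zpow_mem _ (Sylow.smul_eq_iff_mem_normalizer.mp hP) j)
          exact Subgroup.centralizer_le_normalizer _ fun w _ => Subtype.ext (φ_comm_cs w.2).eq
        have := RH.2.to_sup_of_normal_right' P.2 hle
        exact Sylow.ext ((P.3 this le_sup_right).symm.trans (RH.3 this le_sup_left))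
      have hyfix : ∀ P : Sylow 7 ↥H, yH • P = P := by
        intro P
        have hcomm : Commute yH nH := Subtype.ext hyn.eq
        by_cases hP : P = RH
        · rw [hP]; exact Sylow.smul_eq_iff_mem_normalizer.mpr hyNR
        obtain ⟨i, hi⟩ := hnp.card_orbit P
        have hsub : MulAction.orbit (Subgroup.zpowers nH) P ⊆ {Q | Q ≠ RH} := by
          rintro _ ⟨⟨z, l, rfl⟩, rfl⟩ hQ
          apply hP
          have hR' : nH ^ l • RH = RH := Sylow.smul_eq_iff_mem_normalizer.mpr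
            (Subgroup.zpow_mem _ (Subgroup.le_normalizer (show nH ∈ (RH : Subgroup ↥H) from hnR)) l)
          have hQ' : nH ^ l • P = RH := hQ
          exact MulAction.injective (nH ^ l) (hQ'.trans hR'.symm)
        have h7 : ({Q : Sylow 7 ↥H | Q ≠ RH}).ncard = 7 := by
          rw [show {Q : Sylow 7 ↥H | Q ≠ RH} = Set.univ \ {RH} by ext; simp, Set.ncard_sdiff_singleton_of_mem (Set.mem_univ _),
            Set.ncard_univ, hc8]
        have horb : MulAction.orbit (Subgroup.zpowers nH) P = {Q | Q ≠ RH} := by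
          refine Set.eq_of_subset_of_ncard_le hsub ?_ (Set.toFinite _)
          rw [h7, ← Nat.card_coe_set_eq, hi]
          rcases i with _ | i
          · exfalso
            haveI := (Nat.card_eq_one_iff_unique.mp (hi.trans (pow_zero 7))).1
            exact hP (honly P (congrArg Subtype.val (Subsingleton.elim
              (⟨(⟨nH, Subgroup.mem_zpowers _⟩ : Subgroup.zpowers nH) • P, MulAction.mem_orbit _ _⟩ :
                MulAction.orbit (Subgroup.zpowers nH) P) ⟨P, MulAction.mem_orbit_self _⟩)))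
          · exact Nat.le_self_pow (Nat.succ_ne_zero i) 7
        have hyP : yH • P ∈ MulAction.orbit (Subgroup.zpowers nH) P := by
          rw [horb]
          intro hy'
          exact hP (MulAction.injective yH (hy'.trans (Sylow.smul_eq_iff_mem_normalizer.mpr hyNR).symm))
        obtain ⟨⟨z, l, rfl⟩, hl⟩ := hyP
        have hl' : nH ^ l • P = yH • P := hl
        have hy3 : ∀ k : ℕ, yH ^ k • P = (nH ^ l) ^ k • P := by
          intro k
          induction k with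
          | zero => rw [pow_zero, pow_zero]
          | succ k ih =>
            rw [pow_succ', mul_smul, ih, ← mul_smul, ((hcomm.zpow_right l).pow_right k).eq, mul_smul, ← hl',
              ← mul_smul, ← pow_succ]
        have h3 := hy3 3
        rw [show yH ^ 3 = 1 from Subtype.ext (by
          rw [Subgroup.coe_pow]; exact hyl ▸ pow_orderOf_eq_one y), one_smul] at h3
        have h15 : nH ^ l • P = P := by
          have hst : (nH ^ l) ^ 3 ∈ MulAction.stabilizer ↥H P := h3.symm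
          have hst5 := pow_mem hst 5
          have he : ((nH ^ l) ^ 3) ^ 5 = nH ^ l := by
            have h7' : (nH ^ l) ^ 7 = 1 := by
              rw [← zpow_natCast, ← zpow_mul, mul_comm, zpow_mul, zpow_natCast,
                show nH ^ 7 = 1 from Subtype.ext (by rw [Subgroup.coe_pow]; exact hn7), one_zpow]
            rw [← pow_mul, show 3 * 5 = 2 * 7 + 1 by norm_num, pow_succ, mul_comm 2 7, pow_mul, h7', one_pow, one_mul]
          rwa [he] at hst5
        rw [← hl', h15]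
      -- the kernel is odd, so in `⟨φ⟩`
      set K0 := (MulAction.toPermHom ↥H (Sylow 7 ↥H)).ker
      have hyK : yH ∈ K0 := Equiv.ext fun P => hyfix P
      have hKodd : Nat.Coprime 2 (Nat.card K0) := by
        rw [Nat.prime_two.coprime_iff_not_dvd]
        intro h2
        obtain ⟨v, hv⟩ := exists_prime_orderOf_dvd_card' 2 h2
        refine hnotS fun s hs => ?_
        by_cases hs1 : s = 1
        · rw [hs1]; exact one_mem _
        have hvG : orderOf ((v : ↥H) : G) = 2 := by rw [Subgroup.orderOf_coe, Subgroup.orderOf_coe, hv]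
        have hsG : orderOf (s : G) = 2 := hE.orderOf_eq_two hs fun e' => hs1 (Subtype.ext e')
        obtain ⟨w1, hw1, e1⟩ := cent_pow_conj B C (1 : ℤ) hvG (by rw [zpow_one]; exact φ_comm_cs (v : ↥H).2)
        obtain ⟨w2, hw2, e2⟩ := cent_pow_conj B C (1 : ℤ) hsG (by rw [zpow_one]; exact φ_comm_cs s.2)
        rw [zpow_one] at hw1 hw2
        set w : ↥H := ⟨w2 * w1⁻¹, mul_mem (mem_cs hw2) (inv_mem (mem_cs hw1))⟩
        have hsK : s ∈ K0 := by
          have := (inferInstance : K0.Normal).conj_mem _ v.2 w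
          rwa [show w * (v : ↥H) * w⁻¹ = s from Subtype.ext (by
            show w2 * w1⁻¹ * ((v : ↥H) : G) * (w2 * w1⁻¹)⁻¹ = s
            rw [← e1, ← e2]; group)] at this
        exact Sylow.smul_eq_iff_mem_normalizer.mp (Equiv.congr_fun (MonoidHom.mem_ker.mp hsK) RH)
      have hle : K0 ≤ pPrimeCore 2 ↥H := le_pPrimeCore (p := 2) hKodd.symm
      obtain ⟨j, hj⟩ := cs_core B C ((QuotientGroup.eq_one_iff yH).2 (hle hyK))
      have hd := Subgroup.orderOf_dvd_natCard (Subgroup.zpowers C.φ)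
        (show y ∈ Subgroup.zpowers C.φ from ⟨(j : ℤ), (zpow_natCast _ _).trans hj.symm⟩)
      rw [hyl, φ_card h] at hd
      exact absurd (Nat.prime_three.dvd_of_dvd_pow hd) (by norm_num)
    · -- thirty-six
      set RN := (RH : Subgroup ↥H).subgroupOf NR
      set CN := (Subgroup.centralizer ((RH : Subgroup ↥H) : Set ↥H)).subgroupOf NR
      haveI : CN.Normal := ⟨fun z hz w => by
        show (w : ↥H) * (z : ↥H) * (w : ↥H)⁻¹ ∈ Subgroup.centralizer ((RH : Subgroup ↥H) : Set ↥H)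
        intro q hq
        have hq' := (Subgroup.mem_normalizer_iff''.mp w.2 q).mp hq
        have hc : (w : ↥H)⁻¹ * q * (w : ↥H) * (z : ↥H) = (z : ↥H) * ((w : ↥H)⁻¹ * q * (w : ↥H)) := hz _ hq'
        calc q * ((w : ↥H) * (z : ↥H) * (w : ↥H)⁻¹)
            = (w : ↥H) * ((w : ↥H)⁻¹ * q * (w : ↥H) * (z : ↥H)) * (w : ↥H)⁻¹ := by group
          _ = (w : ↥H) * ((z : ↥H) * ((w : ↥H)⁻¹ * q * (w : ↥H))) * (w : ↥H)⁻¹ := by rw [hc]
          _ = (w : ↥H) * (z : ↥H) * (w : ↥H)⁻¹ * q := by group⟩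
      have hRC : RN ≤ CN := fun z hz => fun q hq => Subtype.ext (hRcomm _ hq _ hz).eq
      have h3c : 3 * Nat.card RN ∣ Nat.card CN := by
        refine Nat.Coprime.mul_dvd_of_dvd_of_dvd ?_ ?_ (Subgroup.card_dvd_of_le hRC)
        · rw [show Nat.card RN = 7 ^ (a + 1) from
            ((Nat.card_congr (Subgroup.subgroupOfEquivOfLe Subgroup.le_normalizer).toEquiv).trans
              (Nat.card_congr (Subgroup.subgroupOfEquivOfLe hRH).toEquiv)).trans hRcard]
          exact Nat.Coprime.pow_right _ (by norm_num)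
        · rw [← hyl, show orderOf y = orderOf (⟨yH, hyNR⟩ : ↥NR) by rw [Subgroup.orderOf_mk, Subgroup.orderOf_mk]]
          exact Subgroup.orderOf_dvd_natCard _ (show (⟨yH, hyNR⟩ : ↥NR) ∈ CN from fun q hq => (hRcent q hq).eq.symm)
      have h3i : 3 ∣ CN.index := by
        have hne : (QuotientGroup.mk (⟨gH, hgNR⟩ : ↥NR) : ↥NR ⧸ CN) ≠ 1 := by
          rw [Ne, QuotientGroup.eq_one_iff]
          intro hc
          exact hnc (show x * (g₁ : G) = (g₁ : G) * x from congrArg Subtype.val (hc ⟨x, hRH hx⟩ hx)).symm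
        have ho : orderOf (QuotientGroup.mk (⟨gH, hgNR⟩ : ↥NR) : ↥NR ⧸ CN) = 3 := orderOf_eq_prime (by
          rw [← QuotientGroup.mk_pow, show (⟨gH, hgNR⟩ : ↥NR) ^ 3 = 1 from Subtype.ext (Subtype.ext hg3)]; rfl) hne
        rw [Subgroup.index_eq_card, ← ho]
        exact orderOf_dvd_natCard _
      have h9 : 9 * 7 ^ (a + 1) ∣ Nat.card NR := by
        rw [← CN.index_mul_card, show 9 * 7 ^ (a + 1) = 3 * (3 * 7 ^ (a + 1)) by ring]
        refine Nat.mul_dvd_mul h3i ?_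
        rwa [show Nat.card RN = 7 ^ (a + 1) from
            ((Nat.card_congr (Subgroup.subgroupOfEquivOfLe Subgroup.le_normalizer).toEquiv).trans
              (Nat.card_congr (Subgroup.subgroupOfEquivOfLe hRH).toEquiv)).trans hRcard] at h3c
      have h1 := NR.index_mul_card
      rw [h36, hcardH] at h1
      obtain ⟨d, hd⟩ := h9
      obtain ⟨N', rfl⟩ := hN7
      rw [hd, pow_succ] at h1
      have h2 : 36 * 9 * d = 24 * N' := Nat.eq_of_mul_eq_mul_right (show 0 < 7 ^ a * 7 by positivity) (by linarith)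
      have hN9 : N' ∣ 9 := Nat.dvd_of_mul_dvd_mul_left (show 0 < 7 by norm_num) hN63
      have := Nat.le_of_dvd (by norm_num) hN9
      omega
  have hcentg : ∀ y ∈ H, ∀ k : ℕ, y ^ 7 ^ k = 1 → Commute y (g₁ : G) → y ∈ Subgroup.zpowers C.φ := by
    intro y hy k hyk hyg
    by_contra hyΦ
    have hzp : IsPGroup 7 (Subgroup.zpowers y) := by
      obtain ⟨i, -, hi⟩ := (Nat.dvd_prime_pow (by norm_num : Nat.Prime 7)).mp (orderOf_dvd_of_pow_eq_one hyk)
      exact IsPGroup.of_card (n := i) (by rw [Nat.card_zpowers, hi])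
    set Q := Subgroup.zpowers C.φ ⊔ Subgroup.zpowers y
    have hQH : Q ≤ H := sup_le (Subgroup.zpowers_le.mpr (C.φ_mem_Cs 1)) (Subgroup.zpowers_le.mpr hy)
    have hQ : IsPGroup 7 Q := (φ_in h).to_sup_of_normal_right' hzp (Subgroup.zpowers_le.mpr
      (Subgroup.centralizer_le_normalizer _ fun w hw => by
        obtain ⟨j, rfl⟩ := hw
        exact ((φ_comm_cs hy).zpow_left j).eq))
    have hQc : Nat.card Q = 7 ^ (a + 1) := by
      refine le_antisymm (hSylH Q hQH hQ) ?_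
      obtain ⟨i, hi⟩ := IsPGroup.iff_card.mp hQ
      rw [hi]
      refine Nat.pow_le_pow_right (by norm_num) ?_
      by_contra hlt
      refine hyΦ ?_
      rw [Subgroup.eq_of_le_of_card_ge (le_sup_left : Subgroup.zpowers C.φ ≤ Q) (by
        rw [hi, φ_card h]; exact Nat.pow_le_pow_right (by norm_num) (by omega))]
      exact Subgroup.mem_sup_right (Subgroup.mem_zpowers y)
    obtain ⟨T1, hT1⟩ := (hQ.of_equiv (Subgroup.subgroupOfEquivOfLe hQH).symm).exists_le_sylow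
    obtain ⟨T2, hT2⟩ := (hRp.of_equiv (Subgroup.subgroupOfEquivOfLe hRH).symm).exists_le_sylow
    obtain ⟨w, hw⟩ := MulAction.exists_smul_eq ↥H T1 T2
    have hT1' : Q.subgroupOf H = (T1 : Subgroup ↥H) := by
      refine Subgroup.eq_of_le_of_card_ge hT1 ?_
      rw [Nat.card_congr (Subgroup.subgroupOfEquivOfLe hQH).toEquiv, hQc, ← Subgroup.card_map_of_injective H.subtype_injective]
      exact hSylH _ (Subgroup.map_subtype_le _) (T1.2.map _)
    have hQg : ∀ z ∈ Q, Commute z (g₁ : G) := fun z hz => Subgroup.mem_centralizer_singleton_iff.mp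
      ((sup_le (Subgroup.zpowers_le.mpr (Subgroup.mem_centralizer_singleton_iff.mpr (φ_comm_cs hg₁H).symm.eq))
        (Subgroup.zpowers_le.mpr (Subgroup.mem_centralizer_singleton_iff.mpr hyg.eq)) :
        Q ≤ Subgroup.centralizer ({(g₁ : G)} : Set G)) hz)
    have hnT : (⟨n, hnH⟩ : ↥H) ∈ (T2 : Subgroup ↥H) := hT2 hnR
    rw [← hw, Sylow.coe_subgroup_smul, ← hT1'] at hnT
    obtain ⟨z, hz, hze⟩ := hnT
    have hze' : (w : G) * (z : G) * (w : G)⁻¹ = n := congrArg Subtype.val hze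
    refine hcent ((w : G) * g₁ * (w : G)⁻¹) (mul_mem (mul_mem w.2 hg₁H) (inv_mem w.2)) ?_ 3 Nat.prime_three (by norm_num) ?_
    · rw [← hze']
      exact (hQg _ hz).symm.map (MulAut.conj (w : G)).toMonoidHom
    · rw [← MulAut.conj_apply, MulEquiv.orderOf_eq, Subgroup.orderOf_coe, hg₁o]
  have he1 : e % 7 ≠ 1 := by
    intro e1
    have : n ^ e = n := by rw [← pow_mod_orderOf, hnord, e1, pow_one]
    have hc : Commute (g₁ : G) n := mul_inv_eq_iff_eq_mul.mp (hge.trans this)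
    exact hnc (hRn x hx _ hg₁H hc)
  have he3 : e ^ 3 % 7 = 1 := by
    have h1 : n ^ e ^ 3 = n := by
      have hstep : ∀ j : ℕ, (g₁ : G) * n ^ j * (g₁ : G)⁻¹ = n ^ (e * j) := fun j => by
        rw [← conj_pow, hge, ← pow_mul]
      calc n ^ e ^ 3 = (g₁ : G) * ((g₁ : G) * ((g₁ : G) * n * (g₁ : G)⁻¹) * (g₁ : G)⁻¹) * (g₁ : G)⁻¹ := by
            rw [hge, hstep, hstep]; congr 1; ring
        _ = (g₁ : G) ^ 3 * n * ((g₁ : G) ^ 3)⁻¹ := by simp [pow_succ, mul_assoc]
        _ = n := by rw [hg3, inv_one, mul_one, one_mul]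
    have h2 := pow_eq_pow_iff_modEq.mp (h1.trans (pow_one n).symm)
    rw [hnord] at h2
    exact h2
  have he24 : e % 7 = 2 ∨ e % 7 = 4 := by
    have hlt := Nat.mod_lt e (show 7 > 0 by norm_num)
    rw [Nat.pow_mod] at he3
    generalize e % 7 = d at he1 hlt he3 ⊢
    interval_cases d <;> simp_all
  rcases he24 with e2 | e4
  · exact ⟨⟨g₁, n, by rw [Subgroup.orderOf_coe, hg₁o], hg₁H, hnord, hnH,
      by rw [hge, ← pow_mod_orderOf, hnord, e2], hnΦ, hcent, hSylH, fun y hy hc k hk => hcentg y hy k hk hc⟩⟩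
  · refine ⟨⟨(g₁ : G) ^ 2, n, ?_, pow_mem hg₁H 2, hnord, hnH, ?_, hnΦ, hcent, hSylH, ?_⟩⟩
    · rw [orderOf_pow' _ two_ne_zero, Subgroup.orderOf_coe, hg₁o]; norm_num
    · rw [show (g₁ : G) ^ 2 * n * ((g₁ : G) ^ 2)⁻¹ = (g₁ : G) * ((g₁ : G) * n * (g₁ : G)⁻¹) * (g₁ : G)⁻¹ by
        rw [pow_two]; group, hge, ← conj_pow, hge, ← pow_mul, ← pow_mod_orderOf, hnord, Nat.mul_mod, e4]
    · intro y hy hc k hk
      refine hcentg y hy k hk ?_
      have h2 := hc.pow_right 2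
      rwa [← pow_mul, show 2 * 2 = 3 + 1 by norm_num, pow_succ, hg3, one_mul] at h2

end CfsgLib.Walter.Seven
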