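import Cfsg.Agent.Lib.Walter.Seven.Norm
import Cfsg.Agent.Lib.Fusion.ZJCriterion
import Cfsg.Agent.Lib.SylowCount
import Cfsg.Agent.Lib.TransferApps
import Cfsg.Agent.S3081

/-!
Case (S) does not occur.

Blueprint: `blueprint/Walter.md`, case (S).
-/

set_option autoImplicit false
set_option linter.unusedSectionVars false
set_option linter.style.haveILetI false

namespace CfsgLib.Walter.Seven

open Cfsg
open scoped commutatorElement
open Multiplicative (ofAdd toAdd)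

universe u

/-- Central elements lie in `Z(J(P))`. -/
theorem mem_centerThompsonAOf {G : Type u} [Group G] [Finite G] {P : Subgroup G} {z : G} (hz : z ∈ P)
    (hc : ∀ x ∈ P, Commute z x) : z ∈ centerThompsonAOf P := by
  classical
  refine ⟨?_, fun w hw => ?_⟩
  · let S : Type u := {A : Subgroup ↥P // IsMulCommutative A}
    haveI : Nonempty S := ⟨⟨⊥, ⟨⟨fun x y => Subsingleton.elim _ _⟩⟩⟩⟩
    obtain ⟨⟨A, hA⟩, hmax⟩ := Finite.exists_max fun A : S => Nat.card A.1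
    set zP : ↥P := ⟨z, hz⟩
    have hzc : ∀ x : ↥P, Commute zP x := fun x => Subtype.ext (hc _ x.2).eq
    set K := A ⊔ Subgroup.zpowers zP
    have hK : IsMulCommutative K := by
      have hle : K ≤ Subgroup.centralizer (K : Set ↥P) := by
        have hzC : zP ∈ Subgroup.center ↥P := Subgroup.mem_center_iff.mpr fun x => (hzc x).symm.eq
        refine sup_le ?_ (Subgroup.zpowers_le.mpr (Subgroup.center_le_centralizer _ hzC))
        rw [Subgroup.le_centralizer_iff]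
        refine sup_le ?_ (Subgroup.zpowers_le.mpr (Subgroup.center_le_centralizer _ hzC))
        intro x hx y hy
        exact congrArg Subtype.val (hA.is_comm.comm (⟨y, hy⟩ : A) ⟨x, hx⟩)
      exact ⟨⟨fun x y => Subtype.ext (hle y.2 (x : ↥P) x.2)⟩⟩
    have hAK : A = K := Subgroup.eq_of_le_of_card_ge le_sup_left (hmax ⟨K, hK⟩)
    have hmem : A ∈ maxAbelianSubgroups ↥P := ⟨hA, fun B hB => hmax ⟨B, hB⟩⟩
    have hzA : zP ∈ A := hAK ▸ Subgroup.mem_sup_right (Subgroup.mem_zpowers zP)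
    exact ⟨zP, (le_sSup hmem : A ≤ thompsonSubgroupA ↥P) hzA, rfl⟩
  · obtain ⟨y, -, rfl⟩ := hw
    exact (hc _ y.2).symm.eq

variable {G : Type u} [Group G] [Finite G] {C : Coord G} {a : ℕ} {D : Data C a}

namespace MData

variable (M : MData D) {E : ℕ} {W : Subgroup ↥M.P}

theorem nP_mem (hg : Good 7 E) (hH : Hyp ↥M.P 7 M.α M.φP M.nP E) (hS : Split ↥M.P M.α M.φP E W) : M.nP ∈ W := by
  obtain ⟨w, hw, i, e⟩ := hS.decomp M.nP
  have hc : Commute w M.φP := by
    have h1 : Commute M.φP (M.nP * (M.φP ^ i)⁻¹) := hH.comm.mul_right ((Commute.refl M.φP).zpow_right i).inv_right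
    rw [e, mul_inv_cancel_right] at h1
    exact h1.symm
  have h2 : w ^ E * M.φP ^ i = w ^ E * (M.φP ^ i) ^ E := by
    rw [← (hc.zpow_right i).mul_pow, ← e, ← hH.αn, e, map_mul, hS.scalar w hw, map_zpow, α_φ hg hH]
  have h3 := eq_one_of_fixed_scalar hg hH (x := M.φP ^ i) (by rw [map_zpow, α_φ hg hH])
    (by rw [map_zpow, α_φ hg hH]; exact mul_left_cancel h2)
  rw [e, h3, mul_one]; exact hw

theorem n_central (hg : Good 7 E) (hH : Hyp ↥M.P 7 M.α M.φP M.nP E) (hS : Split ↥M.P M.α M.φP E W) :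
    ∀ x : ↥M.P, Commute M.nP x := by
  haveI : Fact (Nat.Prime 7) := ⟨by norm_num⟩
  haveI : Group.IsNilpotent ↥M.P := M.isP.isNilpotent
  haveI := hS.normal
  have hWne : W ≠ ⊥ := fun e => M.nP_ne (Subgroup.mem_bot.mp (e ▸ M.nP_mem hg hH hS))
  obtain ⟨⟨z, hzW, hzC⟩, hz1⟩ := Subgroup.ne_bot_iff_exists_ne_one.mp (CfsgLib.inf_center_ne_bot_of_nilpotent hWne)
  obtain ⟨i, j, hij⟩ := hH.cent z (Subgroup.mem_center_iff.mp hzC M.φP).symm
  have hi := hS.inf i (by
    have := W.mul_mem hzW (W.inv_mem (Subgroup.zpow_mem W (M.nP_mem hg hH hS) j))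
    rwa [hij, mul_inv_cancel_right] at this)
  rw [hi, one_mul] at hij
  obtain ⟨k, hk⟩ := n_pow_gen hg hH (j := j) fun e => hz1 (Subtype.ext (hij.trans e))
  intro x
  rw [← hk, ← hij]
  exact (show Commute z x from (Subgroup.mem_center_iff.mp hzC x).symm).zpow_left k

theorem control_e1 (B : Base G) (h : CaseS C 7 a) (hg : Good 7 E) (hH : Hyp ↥M.P 7 M.α M.φP M.nP E)
    (hS : Split ↥M.P M.α M.φP E W) (K : Coords ↥M.P M.α M.φP E W)
    (hinv : ∀ (y : ↥(Subgroup.normalizer (M.P : Set G))) (x : ↥M.P), K.e1 (M.cj y x) = K.e1 x)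
    (hidx : ¬ 7 ∣ M.P.index) :
    ∀ m ∈ Subgroup.normalizer ((centerThompsonAOf M.P : Subgroup G) : Set G), ∀ (x : G) (hx : x ∈ M.P)
      (hm : m * x * m⁻¹ ∈ M.P), K.e1 ⟨m * x * m⁻¹, hm⟩ = K.e1 ⟨x, hx⟩ := by
  classical
  haveI : Fact (Nat.Prime 7) := ⟨by norm_num⟩
  haveI : Fact (Nat.Prime 2) := ⟨Nat.prime_two⟩
  intro m0 hm0 x0 hx0 hm0x
  set Z := centerThompsonAOf M.P
  set X := Subgroup.normalizer (Z : Set G) with hX
  have hnN : D.n ≠ 1 := fun e => by simpa [e] using D.n_ord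
  have hnZ : D.n ∈ Z := mem_centerThompsonAOf M.n_mem fun x hx =>
    (congrArg Subtype.val (M.n_central hg hH hS ⟨x, hx⟩).eq : D.n * x = x * D.n)
  have hZp : IsPGroup 7 Z := M.isP.to_le (CfsgLib.ZJ.centerThompsonAOf_le _)
  haveI : Group.IsSolvable ↥X := solvable_normalizer B h D.g_n hnN hZp hnZ
  have hfour : ¬ 2 ^ 2 ∣ Nat.card ↥X := not_four B h D.g_n hnN hZp hnZ
  have hPX : M.P ≤ X := Subgroup.le_normalizer.trans (CfsgLib.ZJ.normalizer_le_normalizer_centerThompsonAOf _)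
  set P' := M.P.subgroupOf X with hP'
  let S : Sylow 7 ↥X := (M.isP.of_equiv (Subgroup.subgroupOfEquivOfLe hPX).symm).toSylow
    (fun hd => hidx (hd.trans (Subgroup.relIndex_dvd_index_of_le hPX)))
  have hS' : (S : Subgroup ↥X) = P' := rfl
  set O := pPrimeCore 7 ↥X with hO
  set q := QuotientGroup.mk' O with hq
  have hq1 : ∀ z, q z = 1 ↔ z ∈ O := fun z => QuotientGroup.eq_one_iff z
  have hinj : ∀ z ∈ P', q z = 1 → z = 1 := by
    intro z hz e
    obtain ⟨k, hk⟩ := S.2 ⟨z, hz⟩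
    exact orderOf_eq_one_iff.mp (Nat.eq_one_of_dvd_coprimes
      ((CfsgLib.card_pPrimeCore_coprime (G := ↥X) 7).pow_right k)
      (Subgroup.orderOf_dvd_natCard O ((hq1 z).1 e)) (orderOf_dvd_of_pow_eq_one (congrArg Subtype.val hk)))
  set SX := CfsgLib.sylowQuotient S O with hSX
  set F := pCore 7 (↥X ⧸ O) with hF
  have hFS : F ≤ (SX : Subgroup (↥X ⧸ O)) := (CfsgLib.isPGroup_pCore 7).le_sylow_of_normal SX
  -- the image of `W`
  let f : ↥M.P →* ↥X ⧸ O := q.comp (Subgroup.inclusion hPX)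
  have hfr : f.range = (SX : Subgroup (↥X ⧸ O)) := by
    rw [hSX, CfsgLib.coe_sylowQuotient, hS', MonoidHom.range_comp, Subgroup.inclusion_range]
  set Wb := W.map f with hWb
  have hWS : Wb ≤ (SX : Subgroup (↥X ⧸ O)) := hfr ▸ Subgroup.map_le_range f W
  have hWn : ∀ c ∈ (SX : Subgroup (↥X ⧸ O)), ∀ w ∈ Wb, c * w * c⁻¹ ∈ Wb := by
    intro c hc w hw
    rw [← hfr] at hc
    obtain ⟨c', rfl⟩ := hc
    obtain ⟨w', hw', rfl⟩ := hw
    exact ⟨c' * w' * c'⁻¹, hS.normal.conj_mem _ hw' _, by rw [map_mul, map_mul, map_inv]⟩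
  have hWc : ∀ v ∈ Wb, ∀ w ∈ Wb, Commute v w := by
    rintro _ ⟨v, hv, rfl⟩ _ ⟨w, hw, rfl⟩
    exact (hS.comm v hv w hw).map f
  have hCF : Subgroup.centralizer (F : Set (↥X ⧸ O)) ≤ F :=
    CfsgLib.centralizer_pCore_le (p := 7) (by norm_num) (CfsgLib.pPrimeCore_quotient_eq_bot 7)
  have hstab : IsPStableOn 7 F := by
    refine CfsgLib.Quadratic.isPStableOn_of_no_sl2 (by norm_num) F (CfsgLib.isPGroup_pCore 7) fun K' f' hf' => ?_
    obtain ⟨T⟩ : Nonempty (Sylow 2 (⊤ : Subgroup (↥X ⧸ O))) := inferInstance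
    have hT : IsMulCommutative T := by
      obtain ⟨k, hk⟩ := IsPGroup.iff_card.mp T.2
      have hk1 : k ≤ 1 := by
        by_contra hlt
        refine hfour ((pow_dvd_pow 2 (show 2 ≤ k by omega)).trans ?_)
        rw [← hk]
        exact ((Subgroup.card_subgroup_dvd_card _).trans (Subgroup.card_subgroup_dvd_card _)).trans
          (Subgroup.card_quotient_dvd_card O)
      haveI : IsCyclic T := by
        rcases (show k = 0 ∨ k = 1 by omega) with rfl | rfl
        · haveI := (Nat.card_eq_one_iff_unique.mp (by rw [hk, pow_zero])).1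
          exact isCyclic_of_subsingleton
        · exact isCyclic_of_prime_card (p := 2) (by rw [hk, pow_one])
      exact ⟨⟨fun x y => IsMulCommutative.is_comm.comm x y⟩⟩
    exact CfsgLib.Quadratic.no_sl2_of_isMulCommutative (by norm_num) T hT le_top f' hf'
  have hWF : Wb ≤ F := by
    intro w hw
    have h1 : ⁅F, Subgroup.zpowers w⁆ ≤ Wb := by
      rw [Subgroup.commutator_le]
      rintro c hc v ⟨i, rfl⟩
      rw [commutatorElement_def]
      exact mul_mem (hWn c (hFS hc) _ (Subgroup.zpow_mem _ hw i)) (inv_mem (Subgroup.zpow_mem _ hw i))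
    have h2 : ⁅⁅F, Subgroup.zpowers w⁆, Subgroup.zpowers w⁆ = ⊥ := by
      refine eq_bot_iff.mpr (Subgroup.commutator_le.mpr ?_)
      rintro c hc v ⟨i, rfl⟩
      exact Subgroup.mem_bot.mpr (commutatorElement_eq_one_iff_mul_comm.mpr (hWc c (h1 hc) _ (Subgroup.zpow_mem _ hw i)).eq)
    set Dc := (pCore 7 ((↥X ⧸ O) ⧸ Subgroup.centralizer (F : Set (↥X ⧸ O)))).comap
      (QuotientGroup.mk' (Subgroup.centralizer (F : Set (↥X ⧸ O)))) with hDc
    have hDp : IsPGroup 7 Dc := (CfsgLib.isPGroup_pCore 7).comap_of_ker_isPGroup _ (by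
      rw [QuotientGroup.ker_mk']
      exact (CfsgLib.isPGroup_pCore 7).to_le hCF)
    exact CfsgLib.le_pCore (N := Dc) hDp (hstab w h2)
  -- the preimage of the core
  set Y := F.comap q with hY
  have hOY : O ≤ Y := fun z hz => by
    show q z ∈ F
    rw [(hq1 z).2 hz]; exact one_mem _
  have hWY : ∀ w ∈ W, Subgroup.inclusion hPX w ∈ Y := fun w hw => hWF ⟨w, hw, rfl⟩
  set m : ↥X := ⟨m0, hm0⟩
  set x : ↥X := ⟨x0, hPX hx0⟩
  have hxS : x ∈ P' := hx0
  have hmx : m * x * m⁻¹ ∈ P' := hm0x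
  -- the elements of `N(P')`
  have hN : ∀ y : ↥X, y ∈ Subgroup.normalizer ((S : Subgroup ↥X) : Set ↥X) → ∀ (z : G) (hz : z ∈ M.P),
      ∃ hz' : (y : G) * z * (y : G)⁻¹ ∈ M.P, K.e1 ⟨_, hz'⟩ = K.e1 ⟨z, hz⟩ := by
    intro y hy z hz
    have hyN : (y : G) ∈ Subgroup.normalizer (M.P : Set G) := Subgroup.mem_normalizer_fintype fun w hw =>
      (Subgroup.mem_normalizer_iff.mp hy ⟨w, hPX hw⟩).mp hw
    exact ⟨(Subgroup.mem_normalizer_iff.mp hyN z).mp hz, hinv ⟨y, hyN⟩ ⟨z, hz⟩⟩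
  by_cases hPY : P' ≤ Y
  · -- the Sylow subgroup is the core
    have hSF : (SX : Subgroup (↥X ⧸ O)) = F := le_antisymm (by
      rw [hSX, CfsgLib.coe_sylowQuotient, hS']
      exact Subgroup.map_le_iff_le_comap.mpr hPY) hFS
    have hmN : m ∈ Subgroup.normalizer ((S : Subgroup ↥X) : Set ↥X) ⊔ O := by
      rw [← CfsgLib.comap_normalizer_sylowQuotient S O, Subgroup.mem_comap, ← hSX, hSF, Subgroup.normalizer_eq_top]
      exact Subgroup.mem_top _
    obtain ⟨y, hy, o, ho, hyo⟩ := Subgroup.mem_sup_of_normal_right.mp hmN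
    have hz : o * x * o⁻¹ ∈ P' := by
      have h' : m * x * m⁻¹ ∈ (S : Subgroup ↥X) := hmx
      rw [← hyo, show y * o * x * (y * o)⁻¹ = y * (o * x * o⁻¹) * y⁻¹ by group] at h'
      exact (Subgroup.mem_normalizer_iff.mp hy _).mpr h'
    have hox : o * x * o⁻¹ = x := mul_inv_eq_one.mp (hinj _ (mul_mem hz (inv_mem hxS)) (by
      rw [map_mul, map_mul, map_mul, map_inv, map_inv, (hq1 o).2 ho]; group))
    obtain ⟨hz', he⟩ := hN y hy x0 hx0
    refine Eq.trans (congrArg K.e1 (Subtype.ext ?_)) he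
    have e : m * x * m⁻¹ = y * x * y⁻¹ := by
      rw [← hyo, show y * o * x * (y * o)⁻¹ = y * (o * x * o⁻¹) * y⁻¹ by group, hox]
    exact congrArg (fun z : ↥X => (z : G)) e
  · -- the quotient by the core has cyclic Sylow subgroups
    have hφY : Subgroup.inclusion hPX M.φP ∉ Y := by
      intro hc
      refine hPY fun z hz => ?_
      obtain ⟨w, hw, i, e⟩ := hS.decomp ⟨(z : G), hz⟩
      rw [show z = Subgroup.inclusion hPX ⟨(z : G), hz⟩ from rfl, e, map_mul, map_zpow]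
      exact mul_mem (hWY w hw) (Subgroup.zpow_mem _ hc i)
    set SY := CfsgLib.sylowQuotient S Y with hSY
    haveI : IsMulCommutative SY := by
      have hle : (SY : Subgroup (↥X ⧸ Y)) ≤ Subgroup.zpowers (QuotientGroup.mk' Y (Subgroup.inclusion hPX M.φP)) := by
        rw [hSY, CfsgLib.coe_sylowQuotient]
        rintro _ ⟨z, hz, rfl⟩
        obtain ⟨w, hw, i, e⟩ := hS.decomp ⟨(z : G), hz⟩
        refine ⟨i, ?_⟩
        show (QuotientGroup.mk' Y (Subgroup.inclusion hPX M.φP)) ^ i = QuotientGroup.mk' Y z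
        rw [show z = Subgroup.inclusion hPX ⟨(z : G), hz⟩ from rfl, e, map_mul, map_zpow, map_mul, map_zpow,
          (QuotientGroup.eq_one_iff _).2 (hWY w hw) |> (fun e' => show QuotientGroup.mk' Y (Subgroup.inclusion hPX w) = 1 from e'),
          one_mul]
      exact ⟨⟨fun u v => Subtype.ext (by
        obtain ⟨i, hi⟩ := hle u.2
        obtain ⟨j, hj⟩ := hle v.2
        show (u : ↥X ⧸ Y) * v = v * u
        rw [← hi, ← hj]
        exact ((Commute.refl _).zpow_zpow i j).eq)⟩⟩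
    set qY := QuotientGroup.mk' Y
    obtain ⟨ν, hν, hνe⟩ := SY.conj_eq_normalizer_conj_of_mem (qY x) (qY m)⁻¹
      ⟨x, hxS, rfl⟩ (by
        rw [inv_inv, ← map_mul, ← map_inv, ← map_mul]
        exact ⟨m * x * m⁻¹, hmx, rfl⟩)
    obtain ⟨v, rfl⟩ := QuotientGroup.mk'_surjective Y ν
    have hv : v ∈ Subgroup.normalizer ((S : Subgroup ↥X) : Set ↥X) ⊔ Y := by
      rw [← CfsgLib.comap_normalizer_sylowQuotient S Y]
      exact hν
    obtain ⟨y, hy, o, ho, rfl⟩ := Subgroup.mem_sup_of_normal_right.mp hv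
    obtain ⟨hz', he⟩ := hN y⁻¹ (inv_mem hy) x0 hx0
    rw [← he]
    -- the difference lies in the core
    set d : ↥M.P := ⟨m0 * x0 * m0⁻¹, hm0x⟩ * (⟨((y⁻¹ : ↥X) : G) * x0 * ((y⁻¹ : ↥X) : G)⁻¹, hz'⟩ : ↥M.P)⁻¹ with hd
    have hdY : Subgroup.inclusion hPX d ∈ Y := by
      rw [show Subgroup.inclusion hPX d = m * x * m⁻¹ * (y⁻¹ * x * y⁻¹⁻¹)⁻¹ from rfl, ← QuotientGroup.eq_one_iff]
      show qY _ = 1
      have h1 : qY o = 1 := (QuotientGroup.eq_one_iff o).2 ho
      rw [inv_inv, map_mul, h1, mul_one] at hνe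
      simp only [qY, map_mul, map_inv, inv_inv] at hνe ⊢
      rw [hνe]
      group
    have hd1 : K.e1 d = 1 := by
      by_contra hne
      refine hφY ?_
      obtain ⟨w, hw, i, e⟩ := hS.decomp d
      have hi : Subgroup.inclusion hPX M.φP ^ i ∈ Y := by
        have := mul_mem (inv_mem (hWY w hw)) hdY
        rwa [e, map_mul, inv_mul_cancel_left, map_zpow] at this
      have h7i : ¬ (7 : ℤ) ∣ i := by
        rintro ⟨c, rfl⟩
        refine hne ?_
        rw [e, map_mul, K.e1_W w hw, one_mul, map_zpow, zpow_mul, show ((7 : ℤ)) = ((7 : ℕ) : ℤ) from rfl,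
          zpow_natCast, exp_seven, one_zpow]
      obtain ⟨b, hb⟩ := M.isP M.φP
      obtain ⟨u', v', huv⟩ := (((Nat.prime_iff_prime_int.mp (show Nat.Prime 7 by norm_num)).coprime_iff_not_dvd.mpr
        h7i).pow_left (m := 7 ^ b - 0) : IsCoprime (((7 : ℕ) : ℤ) ^ (7 ^ b - 0)) i)
      have hkey : Subgroup.inclusion hPX M.φP = (Subgroup.inclusion hPX M.φP ^ i) ^ v' := by
        rw [← map_zpow, ← map_zpow, ← zpow_mul]
        congr 1
        conv_lhs => rw [← zpow_one M.φP, ← huv]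
        rw [zpow_add, mul_comm u', zpow_mul, mul_comm v' i]
        have h0 : M.φP ^ (((7 : ℕ) : ℤ) ^ (7 ^ b - 0)) = 1 := by
          have hle : b ≤ 7 ^ b - 0 := by simpa using (Nat.lt_pow_self (by norm_num : 1 < 7)).le
          obtain ⟨e', he'⟩ := Nat.exists_eq_add_of_le hle
          rw [← Nat.cast_pow, zpow_natCast, he', pow_add, pow_mul, hb, one_pow]
        rw [h0, one_zpow, one_mul]
      rw [hkey]
      exact Subgroup.zpow_mem _ hi v'
    rw [hd, map_mul, map_inv, mul_inv_eq_one] at hd1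
    exact hd1

end MData

/-- Case (S) does not occur. -/
theorem caseS_false (B : Base G) {C : Coord G} {r a : ℕ} (h : CaseS C r a) : False := by
  classical
  obtain rfl := r_eq B h
  haveI : Fact (Nat.Prime 7) := ⟨by norm_num⟩
  haveI := B.simple
  obtain ⟨D⟩ := exists_data B h
  obtain ⟨M⟩ := exists_mdata h D
  obtain ⟨E, W, hE, hg, hH, hS, ⟨K⟩⟩ := M.exists_coords B h
  obtain ⟨hinv, hidx⟩ := M.norm_facts K B h hg hH hS hE
  have hab : ∀ P : Sylow 2 G, ∀ x y : P, x * y = y * x := fun P x y =>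
    Subtype.ext ((B.e8.sylow P).comm x.2 y.2)
  let S : Sylow 7 G := M.isP.toSylow hidx
  set X := Subgroup.normalizer ((centerThompsonAOf M.P : Subgroup G) : Set G)
  set Ker := K.e1.ker.map M.P.subtype
  have hc : ∀ x ∈ M.P, ∀ g : G, g * x * g⁻¹ ∈ M.P → ∃ n ∈ X, n * x * n⁻¹ = g * x * g⁻¹ := by
    intro x hx g hgx
    have hs := (Cfsg.Agent.S3081.result (p := 7) (by norm_num) S M.P ⟨le_rfl, fun _ _ _ hy => hy⟩
      (CfsgLib.Walter.qd_free (by norm_num) hab)).1 {x} (by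
        intro z hz
        rw [Set.mem_singleton_iff.mp hz]
        exact hx)
    obtain ⟨n, hn, e⟩ := hs.2 g (by
      intro z hz
      obtain ⟨w, hw, rfl⟩ := hz
      rw [Set.mem_singleton_iff.mp hw]
      exact hgx)
    exact ⟨n, hn, (e x rfl).symm⟩
  have hM : ∀ x ∈ M.P, ∀ n ∈ X, ⁅x, n⁆ ∈ M.P → ⁅x, n⁆ ∈ Ker := by
    intro x hx n hn hcP
    have hm : n * x⁻¹ * n⁻¹ ∈ M.P := by
      have := mul_mem (inv_mem hx) hcP
      rwa [commutatorElement_def, show x⁻¹ * (x * n * x⁻¹ * n⁻¹) = n * x⁻¹ * n⁻¹ by group] at this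
    refine ⟨⟨⁅x, n⁆, hcP⟩, ?_, rfl⟩
    show K.e1 _ = 1
    rw [show (⟨⁅x, n⁆, hcP⟩ : ↥M.P) = ⟨x, hx⟩ * ⟨n * x⁻¹ * n⁻¹, hm⟩ from Subtype.ext (by
      rw [Subgroup.coe_mul]; show x * n * x⁻¹ * n⁻¹ = x * (n * x⁻¹ * n⁻¹); group),
      map_mul, M.control_e1 B h hg hH hS K hinv hidx n hn x⁻¹ (inv_mem hx) hm, ← map_mul,
      show (⟨x, hx⟩ : ↥M.P) * ⟨x⁻¹, inv_mem hx⟩ = 1 from Subtype.ext (mul_inv_cancel x), map_one]
  have htop : commutator G = ⊤ := by
    rcases Subgroup.Normal.eq_bot_or_eq_top (H := commutator G) inferInstance with hb | hb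
    · exfalso
      refine C.t_ne ?_
      have hall : ∀ x y : G, x * y = y * x := fun x y => by
        have hxy : ⁅x, y⁆ ∈ commutator G := Subgroup.commutator_mem_commutator (Subgroup.mem_top x) (Subgroup.mem_top y)
        rw [hb, Subgroup.mem_bot] at hxy
        exact commutatorElement_eq_one_iff_mul_comm.mp hxy
      exact absurd (hall D.g D.n) fun e => by
        have h2 : D.n ^ 2 = D.n := by rw [← D.g_n, e, mul_inv_cancel_right]
        rw [pow_two, mul_eq_left] at h2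
        simpa [h2] using D.n_ord
    · exact hb
  have h1 := Subgroup.commutator_inf_eq_focalSubgroup S
  rw [htop, top_inf_eq] at h1
  have h2 := TransferApps.focalSubgroup_le_of_control M.P X Ker hc hM
  have hφ : C.φ ∈ (S : Subgroup G) := M.φ_mem
  rw [h1] at hφ
  obtain ⟨z, hz, hze⟩ := h2 hφ
  rw [show z = M.φP from Subtype.ext hze] at hz
  have hz' : K.e1 M.φP = 1 := hz
  rw [K.e1_φ] at hz'
  exact absurd (congrArg toAdd hz') (by simp)

end CfsgLib.Walter.Seven
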