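import Mathlib

/-!
Groups of `2 × 2` matrices over the field of seven elements containing `diag(1, 2)`: three words detect that a
matrix is not diagonal.
-/

set_option autoImplicit false

namespace CfsgLib.Walter.Seven

/-- Two by two matrices over the field of seven elements, by rows. -/
abbrev M7 : Type := ZMod 7 × ZMod 7 × ZMod 7 × ZMod 7

/-- The product of two matrices. -/
def mmul : M7 → M7 → M7
  | (a, b, c, d), (a', b', c', d') => (a * a' + b * c', a * b' + b * d', c * a' + d * c', c * b' + d * d')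

/-- The identity matrix. -/
def mone : M7 := (1, 0, 0, 1)

/-- Powers of a matrix. -/
def mpow (A : M7) : ℕ → M7
  | 0 => mone
  | n + 1 => mmul (mpow A n) A

/-- The matrix `diag(1, 2)`. -/
def hm : M7 := (1, 0, 0, 2)

/-- The three words. -/
def word1 (y : M7) : M7 :=
  mpow (mmul hm (mmul y (mmul hm (mmul y (mmul hm (mpow y 4)))))) 4

/-- The second word. -/
def word2 (y : M7) : M7 :=
  mpow (mmul hm (mmul hm (mmul y (mmul y (mmul hm (mpow y 4)))))) 2

/-- The third word. -/
def word3 (y : M7) : M7 := mpow (mmul hm (mpow y 6)) 3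

/-- Non-trivial of order seven, or diagonal with upper entry not one. -/
def Bad (w : M7) : Prop := (w.2.1 = 0 ∧ w.2.2.1 = 0 ∧ w.1 ≠ 1) ∨ (mpow w 7 = mone ∧ w ≠ mone)

instance (w : M7) : Decidable (Bad w) := inferInstanceAs (Decidable (_ ∨ _))

theorem not_diag_bad : ∀ a b c d : ZMod 7, a * d - b * c ≠ 0 →
    (b = 0 ∧ c = 0) ∨ Bad (word1 (a, b, c, d)) ∨ Bad (word2 (a, b, c, d)) ∨ Bad (word3 (a, b, c, d)) := by
  decide +kernel

end CfsgLib.Walter.Seven
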