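import Cfsg.Agent.Lib.Walter.Seven.Four
import Cfsg.Agent.Lib.Walter.Seven.Coords

/-!
Case (S): a maximal `g`-invariant seven-group containing `⟨φ, n⟩`, with its coordinates.

Blueprint: `blueprint/Walter.md`, case (S).
-/

set_option autoImplicit false
set_option linter.unusedSectionVars false
set_option linter.style.haveILetI false

namespace CfsgLib.Walter.Seven

open Cfsg
open Multiplicative (ofAdd toAdd)

universe u

theorem exists_E (b : ℕ) :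
    ∃ E : ℕ, Good 7 E ∧ E % 7 = 2 ∧ 7 ^ b ∣ E * E + E + 1 := by
  refine ⟨2 ^ 7 ^ b, ?_⟩
  obtain ⟨k, hk⟩ : ∃ k, 7 ^ b = 3 * k + 1 := ⟨7 ^ b / 3, by
    have h3 : 7 ^ b % 3 = 1 := by rw [Nat.pow_mod]; norm_num
    omega⟩
  have hE7 : 2 ^ 7 ^ b % 7 = 2 := by
    rw [hk, pow_succ, pow_mul, Nat.mul_mod, Nat.pow_mod]; norm_num
  set E := 2 ^ 7 ^ b with hE
  have h1 : 1 ≤ E := Nat.one_le_two_pow
  have hsub : ¬ 7 ∣ E - 1 := by omega
  refine ⟨⟨by norm_num, by norm_num, h1, hsub, by omega, by omega⟩, hE7, ?_⟩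
  obtain ⟨d, hd⟩ : ∃ d, E = d + 1 := ⟨E - 1, by omega⟩
  have hz : ((7 : ℤ) ^ (b + 1)) ∣ (8 : ℤ) ^ 7 ^ b - 1 ^ 7 ^ b := by
    simpa using dvd_sub_pow_of_dvd_sub (R := ℤ) (p := 7) (a := 8) (b := 1) (by norm_num) b
  have he : (8 : ℤ) ^ 7 ^ b - 1 ^ 7 ^ b = (((d * (E * E + E + 1)) : ℕ) : ℤ) := by
    rw [one_pow, show (8 : ℤ) = 2 ^ 3 by norm_num, ← pow_mul, mul_comm, pow_mul,
      show ((2 : ℤ) ^ 7 ^ b) = (E : ℤ) by rw [hE]; push_cast; rfl, hd]
    push_cast; ring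
  rw [he, show ((7 : ℤ) ^ (b + 1)) = (((7 ^ (b + 1) : ℕ)) : ℤ) by push_cast; rfl, Int.natCast_dvd_natCast] at hz
  have hc : Nat.Coprime (7 ^ (b + 1)) d :=
    Nat.Coprime.pow_left _ ((show Nat.Prime 7 by norm_num).coprime_iff_not_dvd.mpr (by rwa [show d = E - 1 by omega]))
  exact (pow_dvd_pow 7 (Nat.le_succ b)).trans (hc.dvd_of_dvd_mul_left hz)

variable {G : Type u} [Group G] [Finite G] {C : Coord G} {a : ℕ}

/-- A maximal `g`-invariant seven-group containing `⟨φ, n⟩`. -/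
structure MData (D : Data C a) where
  P : Subgroup G
  isP : IsPGroup 7 P
  φ_mem : C.φ ∈ P
  n_mem : D.n ∈ P
  g_norm : D.g ∈ Subgroup.normalizer (P : Set G)
  max : ∀ Q : Subgroup G, IsPGroup 7 Q → P ≤ Q → D.g ∈ Subgroup.normalizer (Q : Set G) → Q = P

theorem card_base (h : CaseS C 7 a) (D : Data C a) :
    IsPGroup 7 ↥(Subgroup.zpowers C.φ ⊔ Subgroup.zpowers D.n) ∧
      7 ^ (a + 1) ≤ Nat.card ↥(Subgroup.zpowers C.φ ⊔ Subgroup.zpowers D.n) := by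
  haveI : Fact (Nat.Prime 7) := ⟨by norm_num⟩
  have hQ : IsPGroup 7 ↥(Subgroup.zpowers C.φ ⊔ Subgroup.zpowers D.n) :=
    (φ_in h).to_sup_of_normal_right' (IsPGroup.of_card (n := 1) (by rw [Nat.card_zpowers, D.n_ord, pow_one]))
      (Subgroup.zpowers_le.mpr (Subgroup.centralizer_le_normalizer _ fun w hw => by
        obtain ⟨j, rfl⟩ := hw
        exact ((φ_comm_cs D.n_cs).zpow_left j).eq))
  refine ⟨hQ, ?_⟩
  obtain ⟨i, hi⟩ := IsPGroup.iff_card.mp hQ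
  rw [hi]
  refine Nat.pow_le_pow_right (by norm_num) ?_
  by_contra hlt
  refine D.n_not ?_
  rw [Subgroup.eq_of_le_of_card_ge (le_sup_left : Subgroup.zpowers C.φ ≤ _ ⊔ Subgroup.zpowers D.n) (by
    rw [hi, φ_card h]; exact Nat.pow_le_pow_right (by norm_num) (by omega))]
  exact Subgroup.mem_sup_right (Subgroup.mem_zpowers D.n)

theorem exists_mdata (h : CaseS C 7 a) (D : Data C a) : Nonempty (MData D) := by
  classical
  set Q0 := Subgroup.zpowers C.φ ⊔ Subgroup.zpowers D.n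
  have hg0 : D.g ∈ Subgroup.normalizer (Q0 : Set G) := by
    refine Subgroup.mem_normalizer_fintype fun z hz => ?_
    have hle : Q0 ≤ Q0.comap (MulAut.conj D.g).toMonoidHom := by
      refine sup_le (Subgroup.zpowers_le.mpr ?_) (Subgroup.zpowers_le.mpr ?_)
      · show D.g * C.φ * D.g⁻¹ ∈ Q0
        rw [(φ_comm_cs D.g_cs).eq, mul_inv_cancel_right]
        exact Subgroup.mem_sup_left (Subgroup.mem_zpowers _)
      · show D.g * D.n * D.g⁻¹ ∈ Q0
        rw [D.g_n]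
        exact Subgroup.mem_sup_right (Subgroup.pow_mem _ (Subgroup.mem_zpowers _) 2)
    exact hle hz
  let A : Type u := {Q : Subgroup G // IsPGroup 7 Q ∧ Q0 ≤ Q ∧ D.g ∈ Subgroup.normalizer (Q : Set G)}
  haveI : Nonempty A := ⟨⟨Q0, (card_base h D).1, le_rfl, hg0⟩⟩
  obtain ⟨⟨P, hP, hle, hgP⟩, hmax⟩ := Finite.exists_max fun Q : A => Nat.card Q.1
  exact ⟨⟨P, hP, hle (Subgroup.mem_sup_left (Subgroup.mem_zpowers _)), hle (Subgroup.mem_sup_right (Subgroup.mem_zpowers _)),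
    hgP, fun Q hQ hPQ hgQ => (Subgroup.eq_of_le_of_card_ge hPQ (hmax ⟨Q, hQ, hle.trans hPQ, hgQ⟩)).symm⟩⟩

namespace MData

variable {D : Data C a} (M : MData D)

/-- Conjugation by an element normalising `P`. -/
noncomputable def cj : ↥(Subgroup.normalizer (M.P : Set G)) →* MulAut ↥M.P := M.P.normalizerMonoidHom

theorem cj_coe (y : ↥(Subgroup.normalizer (M.P : Set G))) (x : ↥M.P) :
    ((M.cj y x : ↥M.P) : G) = (y : G) * (x : G) * (y : G)⁻¹ := rfl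

/-- The automorphism induced by `g`. -/
noncomputable def α : ↥M.P ≃* ↥M.P := M.cj ⟨D.g, M.g_norm⟩

/-- `φ` in `P`. -/
def φP : ↥M.P := ⟨C.φ, M.φ_mem⟩

/-- `n` in `P`. -/
def nP : ↥M.P := ⟨D.n, M.n_mem⟩

theorem nP_ne : M.nP ≠ 1 := fun e => by
  have h := D.n_ord
  rw [show D.n = 1 from congrArg Subtype.val e, orderOf_one] at h
  omega

/-- An element of `P` commuting with `g` is a power of `φ`. -/
theorem cent_g_P (B : Base G) {x : G} (hx : x ∈ M.P) (hc : Commute x D.g) : x ∈ Subgroup.zpowers C.φ := by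
  haveI : Fact (Nat.Prime 7) := ⟨by norm_num⟩
  set R := M.P ⊓ Subgroup.centralizer ({D.g} : Set G)
  have hφR : C.φ ∈ R := ⟨M.φ_mem, Subgroup.mem_centralizer_singleton_iff.mpr (φ_comm_cs D.g_cs).symm.eq⟩
  have hxR : x ∈ R := ⟨hx, Subgroup.mem_centralizer_singleton_iff.mpr hc.eq⟩
  haveI : Group.IsNilpotent R := (M.isP.to_le (inf_le_left : R ≤ M.P)).isNilpotent
  set F := (Subgroup.zpowers C.φ).subgroupOf R
  by_contra hxn
  have hlt : F < ⊤ := lt_top_iff_ne_top.mpr fun e => hxn (by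
    exact (e.ge (Subgroup.mem_top (⟨x, hxR⟩ : ↥R)) : (⟨x, hxR⟩ : ↥R) ∈ F))
  obtain ⟨y, hy, hyF⟩ := SetLike.exists_of_lt (Group.normalizerCondition_of_isNilpotent F hlt)
  have hm : (y : G) * C.φ * (y : G)⁻¹ ∈ Subgroup.zpowers C.φ :=
    (Subgroup.mem_normalizer_iff.mp hy ⟨C.φ, hφR⟩).mp (Subgroup.mem_zpowers C.φ)
  have he := phi_fusion B (Subgroup.mem_zpowers C.φ) hm rfl
  have hyφ : Commute (y : G) C.φ := (eq_mul_inv_iff_mul_eq.mp he).symm
  obtain ⟨k, hk⟩ := M.isP ⟨(y : G), y.2.1⟩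
  exact hyF (D.cent_g _ (mem_cs hyφ) (Subgroup.mem_centralizer_singleton_iff.mp y.2.2) k (congrArg Subtype.val hk))

theorem exists_coords (B : Base G) (h : CaseS C 7 a) :
    ∃ (E : ℕ) (W : Subgroup ↥M.P), E % 7 = 2 ∧ Good 7 E ∧ Hyp ↥M.P 7 M.α M.φP M.nP E ∧
      Split ↥M.P M.α M.φP E W ∧ Nonempty (Coords ↥M.P M.α M.φP E W) := by
  haveI : Fact (Nat.Prime 7) := ⟨by norm_num⟩
  obtain ⟨b, hb⟩ := IsPGroup.iff_card.mp M.isP
  obtain ⟨E, hg, hE, hdvd⟩ := exists_E b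
  have hn7 : D.n ^ 7 = 1 := by rw [← D.n_ord]; exact pow_orderOf_eq_one _
  have hH : Hyp ↥M.P 7 M.α M.φP M.nP E := by
    refine ⟨M.isP, fun x => Subtype.ext ?_, fun x => ?_, fun x hx => ?_, Subtype.ext hn7, Subtype.ext ?_,
      Subtype.ext (φ_comm_cs D.n_cs).symm.eq, fun x => ?_⟩
    · show D.g * (D.g * (D.g * (x : G) * D.g⁻¹) * D.g⁻¹) * D.g⁻¹ = (x : G)
      calc _ = D.g ^ 3 * (x : G) * (D.g ^ 3)⁻¹ := by simp [pow_succ, mul_assoc]
        _ = _ := by rw [show D.g ^ 3 = 1 by rw [← D.g_ord]; exact pow_orderOf_eq_one _, one_mul, inv_one, mul_one]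
    · constructor
      · intro hx
        have hx' : D.g * (x : G) * D.g⁻¹ = x := congrArg Subtype.val hx
        obtain ⟨i, hi⟩ := M.cent_g_P B x.2 (mul_inv_eq_iff_eq_mul.mp hx').symm
        exact ⟨i, Subtype.ext (by simpa [φP] using hi)⟩
      · rintro ⟨i, rfl⟩
        refine Subtype.ext ?_
        show D.g * ((M.φP ^ i : ↥M.P) : G) * D.g⁻¹ = ((M.φP ^ i : ↥M.P) : G)
        rw [Subgroup.coe_zpow, show ((M.φP : ↥M.P) : G) = C.φ from rfl,
          ((φ_comm_cs D.g_cs).zpow_right i).eq, mul_inv_cancel_right]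
    · set Q0 := Subgroup.zpowers C.φ ⊔ Subgroup.zpowers D.n
      have hle : Q0 ≤ M.P ⊓ C.Cs 1 := sup_le
        (Subgroup.zpowers_le.mpr ⟨M.φ_mem, C.φ_mem_Cs 1⟩) (Subgroup.zpowers_le.mpr ⟨M.n_mem, D.n_cs⟩)
      have heq : Q0 = M.P ⊓ C.Cs 1 := Subgroup.eq_of_le_of_card_ge hle
        ((D.sylow _ inf_le_right (M.isP.to_le inf_le_left)).trans (card_base h D).2)
      have hxm : (x : G) ∈ Q0 := heq ▸ ⟨x.2, mem_cs (show Commute (x : G) C.φ from congrArg Subtype.val hx.eq)⟩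
      have hnorm : Subgroup.zpowers C.φ ≤ Subgroup.normalizer (Subgroup.zpowers D.n : Set G) :=
        Subgroup.zpowers_le.mpr (Subgroup.centralizer_le_normalizer _ fun w hw => by
          obtain ⟨j, rfl⟩ := hw
          exact ((φ_comm_cs D.n_cs).zpow_left j).eq)
      rw [← SetLike.mem_coe, Subgroup.coe_mul_of_left_le_normalizer_right _ _ hnorm] at hxm
      obtain ⟨_, ⟨i, rfl⟩, _, ⟨j, rfl⟩, e'⟩ := hxm
      exact ⟨i, j, Subtype.ext (by simpa [φP, nP] using e'.symm)⟩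
    · show D.g * D.n * D.g⁻¹ = D.n ^ E
      rw [D.g_n, ← pow_mod_orderOf D.n E, D.n_ord, hE]
    · obtain ⟨c, hc⟩ := hdvd
      rw [hc, pow_mul, ← hb, pow_card_eq_one', one_pow]
  obtain ⟨W, hW⟩ := exists_split hg (Nat.card M.P) ↥M.P M.α M.φP M.nP rfl hH
  refine ⟨E, W, hE, hg, hH, hW, Seven.exists_coords hg hH hW ?_ M.nP_ne⟩
  rw [show orderOf M.φP = orderOf C.φ from Subgroup.orderOf_mk _ _, C.φ_ord, h.ord]
  exact dvd_pow_self 7 (by have := h.one_le; omega)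

end MData

end CfsgLib.Walter.Seven
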