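import Cfsg.Agent.Lib.Walter.Seven.Max
import Cfsg.Agent.Lib.Walter.Seven.Matrix
import Cfsg.Agent.Lib.CoprimeGen
import Cfsg.Agent.Lib.PSolvable

/-!
Case (S): the maximal invariant seven-group is a Sylow subgroup, and its normaliser fixes the exponent of `φ`
modulo seven.

Blueprint: `blueprint/Walter.md`, case (S).
-/

set_option autoImplicit false
set_option linter.unusedSectionVars false
set_option linter.style.haveILetI false

namespace CfsgLib.Walter.Seven

open Cfsg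
open Multiplicative (ofAdd toAdd)

universe u

theorem mmul_one (A : M7) : mmul A mone = A := by
  obtain ⟨a, b, c, d⟩ := A
  simp [mmul, mone]

theorem one_mmul (A : M7) : mmul mone A = A := by
  obtain ⟨a, b, c, d⟩ := A
  simp [mmul, mone]

/-- The determinant. -/
def mdet : M7 → ZMod 7
  | (a, b, c, d) => a * d - b * c

theorem mdet_mul (A A' : M7) : mdet (mmul A A') = mdet A * mdet A' := by
  obtain ⟨a, b, c, d⟩ := A
  obtain ⟨a', b', c', d'⟩ := A'
  simp only [mmul, mdet]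
  ring

theorem diag_seven : ∀ d : ZMod 7, mpow ((1, 0, 0, d) : M7) 7 = mone → d = 1 := by decide +kernel

variable {G : Type u} [Group G] [Finite G] {C : Coord G} {a : ℕ} {D : Data C a}

namespace MData

variable (M : MData D) {E : ℕ} {W : Subgroup ↥M.P} (K : Coords ↥M.P M.α M.φP E W)

/-- The matrix of an element of the normaliser. -/
noncomputable def mat (y : ↥(Subgroup.normalizer (M.P : Set G))) : M7 :=
  (toAdd (K.e1 (M.cj y M.φP)), toAdd (K.e1 (M.cj y K.w0)), toAdd (K.e2 (M.cj y M.φP)), toAdd (K.e2 (M.cj y K.w0)))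

theorem mat_mul (y z : ↥(Subgroup.normalizer (M.P : Set G))) : M.mat K (y * z) = mmul (M.mat K y) (M.mat K z) := by
  have h : ∀ (e : ↥M.P →* Multiplicative (ZMod 7)) (x : ↥M.P), toAdd (e (M.cj (y * z) x)) =
      toAdd (e (M.cj y M.φP)) * toAdd (K.e1 (M.cj z x)) + toAdd (e (M.cj y K.w0)) * toAdd (K.e2 (M.cj z x)) := by
    intro e x
    rw [map_mul, MulAut.mul_apply]
    exact K.lin (e.comp (M.cj y).toMonoidHom) (M.cj z x)
  simp only [mat, mmul, h]

theorem mat_one : M.mat K 1 = mone := by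
  simp only [mat, map_one, MulAut.one_apply, K.e1_φ, K.e1_w0, K.e2_φ, K.e2_w0, toAdd_ofAdd, toAdd_one]
  rfl

theorem mat_g (hE : E % 7 = 2) : M.mat K ⟨D.g, M.g_norm⟩ = hm := by
  have hφ : M.cj ⟨D.g, M.g_norm⟩ M.φP = M.φP := Subtype.ext (by
    show D.g * C.φ * D.g⁻¹ = C.φ
    rw [(φ_comm_cs D.g_cs).eq, mul_inv_cancel_right])
  have hw : M.cj ⟨D.g, M.g_norm⟩ K.w0 = K.w0 ^ E := K.α_w0
  have hE' : (E : ZMod 7) = 2 := by rw [← ZMod.natCast_mod E 7, hE]; rfl
  simp only [mat, hφ, hw, map_pow, K.e1_φ, K.e1_w0, K.e2_φ, K.e2_w0, one_pow, toAdd_ofAdd, toAdd_one, toAdd_pow,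
    nsmul_eq_mul, mul_one, hE']
  rfl

theorem mat_pow (y : ↥(Subgroup.normalizer (M.P : Set G))) (k : ℕ) : M.mat K (y ^ k) = mpow (M.mat K y) k := by
  induction k with
  | zero => rw [pow_zero, M.mat_one K]; rfl
  | succ k ih => rw [pow_succ, M.mat_mul K, ih]; rfl

theorem mat_inner (y : ↥(Subgroup.normalizer (M.P : Set G))) (hy : (y : G) ∈ M.P) : M.mat K y = mone := by
  have h : ∀ (e : ↥M.P →* Multiplicative (ZMod 7)) (x : ↥M.P), e (M.cj y x) = e x := by
    intro e x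
    rw [show M.cj y x = ⟨(y : G), hy⟩ * x * ⟨(y : G), hy⟩⁻¹ from Subtype.ext rfl, map_mul, map_mul, map_inv,
      mul_inv_cancel_comm]
  simp only [mat, h, K.e1_φ, K.e1_w0, K.e2_φ, K.e2_w0, toAdd_ofAdd, toAdd_one]
  rfl

/-- The elements acting trivially modulo the Frattini subgroup are those of `P`. -/
theorem mat_ker (y : ↥(Subgroup.normalizer (M.P : Set G))) (hy : M.mat K y = mone) : (y : G) ∈ M.P := by
  classical
  haveI : Fact (Nat.Prime 7) := ⟨by norm_num⟩
  set N := Subgroup.normalizer (M.P : Set G)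
  let Kr : Subgroup ↥N :=
    { carrier := {y | M.mat K y = mone}
      one_mem' := M.mat_one K
      mul_mem' := fun {a b} ha hb => by
        show M.mat K (a * b) = mone
        rw [M.mat_mul K, show M.mat K a = mone from ha, show M.mat K b = mone from hb, one_mmul]
      inv_mem' := fun {a} ha => by
        have h := M.mat_mul K a⁻¹ a
        rw [inv_mul_cancel, M.mat_one K, show M.mat K a = mone from ha, mmul_one] at h
        exact h.symm }
  haveI hKn : Kr.Normal := ⟨fun z hz w => by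
    show M.mat K (w * z * w⁻¹) = mone
    rw [M.mat_mul K, M.mat_mul K, show M.mat K z = mone from hz, mmul_one, ← M.mat_mul K, mul_inv_cancel,
      M.mat_one K]⟩
  have hKp : IsPGroup 7 Kr := by
    refine IsPGroup.of_card (n := (Nat.card Kr).primeFactorsList.length)
      (Nat.eq_prime_pow_of_unique_prime_dvd Nat.card_pos.ne' fun {l} hl hld => ?_)
    by_contra hl7
    haveI := Fact.mk hl
    obtain ⟨z, hz⟩ := exists_prime_orderOf_dvd_card' (G := Kr) l hld
    set zG : G := ((z : ↥N) : G) with hzG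
    have hzo : orderOf zG = l := by rw [hzG, Subgroup.orderOf_coe, Subgroup.orderOf_coe, hz]
    have hzN : Subgroup.zpowers zG ≤ N := Subgroup.zpowers_le.mpr (z : ↥N).2
    have hcop : (Nat.card (Subgroup.zpowers zG)).Coprime (Nat.card (frattini ↥M.P)) := by
      obtain ⟨k, hk⟩ := IsPGroup.iff_card.mp (M.isP.to_subgroup (frattini ↥M.P))
      rw [Nat.card_zpowers, hzo, hk]
      exact Nat.Coprime.pow_right k ((Nat.coprime_primes hl (by norm_num)).mpr hl7)
    have hcent := CfsgLib.centralize_of_trivial_mod_frattini hzN hcop (fun w hw k hk => by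
      obtain ⟨i, rfl⟩ := hw
      have hwK : M.mat K ((z : ↥N) ^ i) = mone := zpow_mem (K := Kr) z.2 i
      set c := M.cj ((z : ↥N) ^ i) ⟨k, hk⟩ * (⟨k, hk⟩ : ↥M.P)⁻¹
      refine ⟨c, ?_, ?_⟩
      · have h1 : ∀ e : ↥M.P →* Multiplicative (ZMod 7), (toAdd (e (M.cj ((z : ↥N) ^ i) M.φP)) = toAdd (e M.φP)) →
            (toAdd (e (M.cj ((z : ↥N) ^ i) K.w0)) = toAdd (e K.w0)) → e c = 1 := by
          intro e e1 e2
          have l1 := K.lin (e.comp (M.cj ((z : ↥N) ^ i)).toMonoidHom) ⟨k, hk⟩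
          simp only [MonoidHom.comp_apply, MulEquiv.coe_toMonoidHom, e1, e2, ← K.lin e] at l1
          rw [map_mul, map_inv, toAdd.injective l1, mul_inv_cancel]
        simp only [mat, mone, Prod.mk.injEq] at hwK
        refine K.mem_frattini M.isP (h1 K.e1 ?_ ?_) (h1 K.e2 ?_ ?_)
        · rw [hwK.1, K.e1_φ, toAdd_ofAdd]
        · rw [hwK.2.1, K.e1_w0, toAdd_one]
        · rw [hwK.2.2.1, K.e2_φ, toAdd_one]
        · rw [hwK.2.2.2, K.e2_w0, toAdd_ofAdd]
      · show ((c : ↥M.P) : G) = zG ^ i * k * (zG ^ i)⁻¹ * k⁻¹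
        rw [Subgroup.coe_mul, M.cj_coe, Subgroup.coe_inv, Subgroup.coe_zpow])
    have hc : ∀ x ∈ M.P, Commute zG x := fun x hx =>
      (hcent (Subgroup.mem_zpowers zG) x hx : x * zG = zG * x).symm
    exact D.cent_n zG (mem_cs (hc _ M.φ_mem)) (hc _ M.n_mem) l hl hl7 hzo
  have hPK : M.P ≤ Kr.map N.subtype := fun x hx =>
    ⟨⟨x, Subgroup.le_normalizer hx⟩, M.mat_inner K _ hx, rfl⟩
  have hgK : D.g ∈ Subgroup.normalizer ((Kr.map N.subtype : Subgroup G) : Set G) := by
    refine Subgroup.mem_normalizer_fintype ?_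
    rintro _ ⟨z, hz, rfl⟩
    exact ⟨_, hKn.conj_mem z hz ⟨D.g, M.g_norm⟩, rfl⟩
  have := M.max _ (hKp.map _) hPK hgK
  exact this.le ⟨_, hy, rfl⟩

/-- A diagonal matrix in the normaliser fixes the first coordinate. -/
theorem diag_one (B : Base G) (hg : Good 7 E) (hH : Hyp ↥M.P 7 M.α M.φP M.nP E) (hS : Split ↥M.P M.α M.φP E W)
    (hE : E % 7 = 2) {y : ↥(Subgroup.normalizer (M.P : Set G))} (hb : (M.mat K y).2.1 = 0)
    (hc : (M.mat K y).2.2.1 = 0) : (M.mat K y).1 = 1 := by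
  set gN : ↥(Subgroup.normalizer (M.P : Set G)) := ⟨D.g, M.g_norm⟩
  have hdiag : mmul (M.mat K y) hm = mmul hm (M.mat K y) := by
    obtain ⟨p, q, r, s, e⟩ : ∃ p q r s, M.mat K y = (p, q, r, s) := ⟨_, _, _, _, rfl⟩
    rw [e] at hb hc ⊢
    dsimp only at hb hc
    subst hb hc
    simp [mmul, hm, mul_comm]
  have hcomm : (((y * gN) * (gN * y)⁻¹ : ↥(Subgroup.normalizer (M.P : Set G))) : G) ∈ M.P := by
    refine M.mat_ker K _ ?_
    have h1 : M.mat K (y * gN) = M.mat K (gN * y) := by rw [M.mat_mul K, M.mat_mul K, M.mat_g K hE, hdiag]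
    rw [M.mat_mul K, h1, ← M.mat_mul K, mul_inv_cancel, M.mat_one K]
  have hp0 : (y : G) * D.g * (y : G)⁻¹ * D.g⁻¹ ∈ M.P := by
    have e : (((y * gN) * (gN * y)⁻¹ : ↥(Subgroup.normalizer (M.P : Set G))) : G) =
        (y : G) * D.g * (y : G)⁻¹ * D.g⁻¹ := by
      simp only [Subgroup.coe_mul, Subgroup.coe_inv, gN]; group
    rwa [e] at hcomm
  set p0 : ↥M.P := ⟨_, hp0⟩ with hp0def
  have hg3 : D.g ^ 3 = 1 := by rw [← D.g_ord]; exact pow_orderOf_eq_one _
  have hnorm : p0 * M.α p0 * M.α (M.α p0) = 1 := by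
    refine Subtype.ext ?_
    show (p0 : G) * (D.g * (p0 : G) * D.g⁻¹) * (D.g * (D.g * (p0 : G) * D.g⁻¹) * D.g⁻¹) = 1
    calc _ = ((p0 : G) * D.g) ^ 3 * (D.g ^ 3)⁻¹ := by simp [pow_succ, mul_assoc]
      _ = 1 := by
        rw [show (p0 : G) * D.g = (y : G) * D.g * (y : G)⁻¹ by simp [hp0def], conj_pow, hg3, mul_one,
          mul_inv_cancel, one_mul, inv_one]
  -- `p0` is in `W`
  haveI := hS.normal
  obtain ⟨w, hw, i, hi⟩ := hS.decomp p0
  have hαφ : M.α M.φP = M.φP := α_φ hg hH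
  have hiw : M.φP ^ i = 1 := by
    set f := QuotientGroup.mk' W with hf
    have hfα : ∀ x ∈ W, f (M.α x) = 1 := fun x hx =>
      (QuotientGroup.eq_one_iff _).2 (by rw [hS.scalar x hx]; exact pow_mem hx E)
    have hfw : f w = 1 := (QuotientGroup.eq_one_iff _).2 hw
    have hwE : M.α w ∈ W := by rw [hS.scalar w hw]; exact pow_mem hw E
    have h3 : f ((M.φP ^ i) ^ 3) = 1 := by
      have := congrArg f hnorm
      rw [hi, map_mul M.α, map_mul M.α, map_zpow M.α, hαφ, map_zpow M.α, hαφ, map_one] at this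
      simpa [map_mul, hfw, hfα w hw, hfα _ hwE, pow_succ, mul_assoc] using this
    have hmem : (M.φP ^ i) ^ 3 ∈ W := (QuotientGroup.eq_one_iff _).1 h3
    rw [← zpow_natCast, ← zpow_mul] at hmem
    have := hS.inf _ hmem
    rw [zpow_mul, zpow_natCast] at this
    exact eq_one_of_pow M.isP hg.prime (by norm_num) this
  rw [hiw, mul_one] at hi
  obtain ⟨k, hk⟩ := exists_root M.isP hg.prime hg.sub_one w⁻¹
  set v := w⁻¹ ^ k with hv
  have hvW : v ∈ W := pow_mem (inv_mem hw) k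
  have hvα : v * (M.α v)⁻¹ = p0 := by
    rw [hS.scalar v hvW, hi, ← Nat.sub_add_cancel hg.one, pow_succ', _root_.mul_inv_rev, hk, inv_inv, ← mul_assoc,
      (hS.comm v hvW w hw).eq, mul_inv_cancel_right]
  have hv' : (v : G) * D.g * (v : G)⁻¹ = (y : G) * D.g * (y : G)⁻¹ := by
    have e : (v : G) * (D.g * (v : G) * D.g⁻¹)⁻¹ = (y : G) * D.g * (y : G)⁻¹ * D.g⁻¹ := congrArg Subtype.val hvα
    calc (v : G) * D.g * (v : G)⁻¹ = (v : G) * (D.g * (v : G) * D.g⁻¹)⁻¹ * D.g := by group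
      _ = _ := by rw [e, inv_mul_cancel_right]
  set y' : ↥(Subgroup.normalizer (M.P : Set G)) := ⟨(v : G), Subgroup.le_normalizer v.2⟩⁻¹ * y with hy'
  have hy'g : Commute (y' : G) D.g := by
    show (v : G)⁻¹ * (y : G) * D.g = D.g * ((v : G)⁻¹ * (y : G))
    calc (v : G)⁻¹ * (y : G) * D.g = (v : G)⁻¹ * ((y : G) * D.g * (y : G)⁻¹) * (y : G) := by group
      _ = D.g * ((v : G)⁻¹ * (y : G)) := by rw [← hv']; group
  have hmem : ((M.cj y' M.φP : ↥M.P) : G) ∈ Subgroup.zpowers C.φ := by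
    refine M.cent_g_P B (M.cj y' M.φP).2 ?_
    rw [M.cj_coe]
    exact (hy'g.mul_left (φ_comm_cs D.g_cs).symm).mul_left hy'g.inv_left
  have hfix : M.cj y' M.φP = M.φP :=
    Subtype.ext (phi_fusion B (Subgroup.mem_zpowers C.φ) hmem rfl).symm
  have h1 : M.mat K y = M.mat K y' := by
    rw [hy', M.mat_mul K, M.mat_inner K (⟨(v : G), Subgroup.le_normalizer v.2⟩⁻¹) (inv_mem v.2), one_mmul]
  rw [h1]
  show toAdd (K.e1 (M.cj y' M.φP)) = 1
  rw [hfix, K.e1_φ, toAdd_ofAdd]

/-- The conclusion. -/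
theorem norm_facts (B : Base G) (h : CaseS C 7 a) (hg : Good 7 E) (hH : Hyp ↥M.P 7 M.α M.φP M.nP E)
    (hS : Split ↥M.P M.α M.φP E W) (hE : E % 7 = 2) :
    (∀ (y : ↥(Subgroup.normalizer (M.P : Set G))) (x : ↥M.P), K.e1 (M.cj y x) = K.e1 x) ∧ ¬ 7 ∣ M.P.index := by
  classical
  haveI : Fact (Nat.Prime 7) := ⟨by norm_num⟩
  set N := Subgroup.normalizer (M.P : Set G) with hN
  haveI : Group.IsSolvable ↥N :=
    solvable_normalizer B h D.g_n (fun e => by simpa [e] using D.n_ord) M.isP M.n_mem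
  haveI : (M.P.subgroupOf N).Normal := Subgroup.normal_in_normalizer
  set π := QuotientGroup.mk' (M.P.subgroupOf N) with hπ
  have hπ1 : ∀ y : ↥N, π y = 1 ↔ (y : G) ∈ M.P := fun y => QuotientGroup.eq_one_iff y
  -- the matrix on the quotient
  have hwd : ∀ y z : ↥N, π y = π z → M.mat K y = M.mat K z := by
    intro y z e
    have hm' : ((y⁻¹ * z : ↥N) : G) ∈ M.P := (hπ1 _).1 (by rw [map_mul, map_inv, e, inv_mul_cancel])
    rw [show z = y * (y⁻¹ * z) by group, M.mat_mul K, M.mat_inner K _ hm', mmul_one]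
  set gN : ↥N := ⟨D.g, M.g_norm⟩
  -- the `7'`-core
  set L := pPrimeCore 7 (↥N ⧸ M.P.subgroupOf N) with hL
  have hL1 : L ≠ ⊥ := by
    intro hbot
    have hc : pCore 7 (↥N ⧸ M.P.subgroupOf N) = ⊥ := by
      set O := (pCore 7 (↥N ⧸ M.P.subgroupOf N)).comap π with hO
      have hOp : IsPGroup 7 O := (CfsgLib.isPGroup_pCore 7).comap_of_ker_isPGroup _ (by
        rw [hπ, QuotientGroup.ker_mk']
        exact M.isP.of_equiv (Subgroup.subgroupOfEquivOfLe Subgroup.le_normalizer).symm)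
      have hle : M.P ≤ O.map N.subtype := fun x hx => ⟨⟨x, Subgroup.le_normalizer hx⟩, by
        show π _ ∈ pCore 7 _
        rw [(hπ1 _).2 hx]; exact one_mem _, rfl⟩
      have hgO : D.g ∈ Subgroup.normalizer ((O.map N.subtype : Subgroup G) : Set G) := by
        refine Subgroup.mem_normalizer_fintype ?_
        rintro _ ⟨z, hz, rfl⟩
        exact ⟨_, (inferInstance : O.Normal).conj_mem z hz gN, rfl⟩
      have he := M.max _ (hOp.map _) hle hgO
      refine eq_bot_iff.mpr fun q hq => ?_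
      obtain ⟨y, rfl⟩ := QuotientGroup.mk'_surjective _ q
      refine Subgroup.mem_bot.mpr ((hπ1 y).2 ?_)
      rw [← he]
      exact ⟨y, hq, rfl⟩
    have htop := CfsgLib.centralizer_pCore_le (p := 7) (by norm_num) hbot
    rw [hc] at htop
    have hg1 : π gN = 1 := Subgroup.mem_bot.mp (htop (fun w hw => by
      rw [Subgroup.mem_bot.mp hw, one_mul, mul_one]))
    have := M.mat_inner K gN ((hπ1 _).1 hg1)
    rw [M.mat_g K hE] at this
    exact absurd this (by decide)
  -- elements of order seven in `L⟨g⟩`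
  set L' := L ⊔ Subgroup.zpowers (π gN)
  have hL' : ∀ q ∈ L', q ^ 7 = 1 → q = 1 := by
    intro q hq h7
    have hle : L' ≤ (Subgroup.zpowers (QuotientGroup.mk' L (π gN))).comap (QuotientGroup.mk' L) := by
      refine sup_le (fun z hz => ?_) (Subgroup.zpowers_le.mpr (Subgroup.mem_zpowers (QuotientGroup.mk' L (π gN))))
      show QuotientGroup.mk' L z ∈ Subgroup.zpowers (QuotientGroup.mk' L (π gN))
      rw [(QuotientGroup.eq_one_iff z).2 hz |> (fun e => show QuotientGroup.mk' L z = 1 from e)]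
      exact one_mem _
    obtain ⟨i, hi⟩ := hle hq
    have h3 : (QuotientGroup.mk' L q) ^ 3 = 1 := by
      rw [← hi, ← zpow_natCast, ← zpow_mul, mul_comm, zpow_mul, zpow_natCast, ← map_pow, ← map_pow,
        show gN ^ 3 = 1 from Subtype.ext (by rw [Subgroup.coe_pow, ← D.g_ord]; exact pow_orderOf_eq_one _),
        map_one, map_one, one_zpow]
    have hq1 : QuotientGroup.mk' L q = 1 := orderOf_eq_one_iff.mp (Nat.eq_one_of_dvd_coprimes
      (by norm_num : Nat.Coprime 7 3) (orderOf_dvd_of_pow_eq_one (by rw [← map_pow, h7, map_one]))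
      (orderOf_dvd_of_pow_eq_one h3))
    refine orderOf_eq_one_iff.mp (Nat.eq_one_of_dvd_coprimes (CfsgLib.card_pPrimeCore_coprime
      (G := ↥N ⧸ M.P.subgroupOf N) 7).symm (orderOf_dvd_of_pow_eq_one h7)
      (Subgroup.orderOf_dvd_natCard L ((QuotientGroup.eq_one_iff q).1 hq1)))
  -- no bad element
  have hbad : ∀ y : ↥N, π y ∈ L' → ¬ Bad (M.mat K y) := by
    intro y hy hb
    rcases hb with ⟨h1, h2, h3⟩ | ⟨h1, h2⟩
    · exact h3 (M.diag_one K B hg hH hS hE h1 h2)
    · refine h2 (M.mat_inner K y ((hπ1 y).1 (hL' _ hy ?_)))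
      rw [← map_pow]
      exact (hπ1 _).2 (M.mat_ker K _ (by rw [M.mat_pow K, h1]))
  -- the elements of `L` are diagonal
  have hgm : M.mat K gN = hm := M.mat_g K hE
  have hdiagL : ∀ y : ↥N, π y ∈ L → (M.mat K y).2.1 = 0 ∧ (M.mat K y).2.2.1 = 0 := by
    intro y hy
    obtain ⟨p, q, r, s, e⟩ : ∃ p q r s, M.mat K y = (p, q, r, s) := ⟨_, _, _, _, rfl⟩
    have hdet : p * s - q * r ≠ 0 := by
      intro h0
      have h1 : mdet (M.mat K y) * mdet (M.mat K y⁻¹) = 1 := by
        rw [← mdet_mul, ← M.mat_mul K, mul_inv_cancel, M.mat_one K]; rfl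
      rw [e, show mdet (p, q, r, s) = p * s - q * r from rfl, h0, zero_mul] at h1
      exact zero_ne_one h1
    have hgL : π gN ∈ L' := Subgroup.mem_sup_right (Subgroup.mem_zpowers _)
    have hyL : π y ∈ L' := Subgroup.mem_sup_left hy
    rw [e]
    rcases not_diag_bad p q r s hdet with hd | hw | hw | hw
    · exact hd
    · refine absurd hw ?_
      rw [← e, show word1 (M.mat K y) = M.mat K ((gN * (y * (gN * (y * (gN * y ^ 4))))) ^ 4) by
        simp only [word1, M.mat_pow K, M.mat_mul K, hgm]]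
      refine hbad _ ?_
      simp only [map_pow, map_mul]
      exact pow_mem (mul_mem hgL (mul_mem hyL (mul_mem hgL (mul_mem hyL (mul_mem hgL (pow_mem hyL 4)))))) 4
    · refine absurd hw ?_
      rw [← e, show word2 (M.mat K y) = M.mat K ((gN * (gN * (y * (y * (gN * y ^ 4))))) ^ 2) by
        simp only [word2, M.mat_pow K, M.mat_mul K, hgm]]
      refine hbad _ ?_
      simp only [map_pow, map_mul]
      exact pow_mem (mul_mem hgL (mul_mem hgL (mul_mem hyL (mul_mem hyL (mul_mem hgL (pow_mem hyL 4)))))) 2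
    · refine absurd hw ?_
      rw [← e, show word3 (M.mat K y) = M.mat K ((gN * y ^ 6) ^ 3) by
        simp only [word3, M.mat_pow K, M.mat_mul K, hgm]]
      refine hbad _ ?_
      simp only [map_pow, map_mul]
      exact pow_mem (mul_mem hgL (pow_mem hyL 6)) 3
  have hformL : ∀ y : ↥N, π y ∈ L → π y ≠ 1 → ∃ μ : ZMod 7, μ ≠ 1 ∧ M.mat K y = (1, 0, 0, μ) := by
    intro y hy hy1
    obtain ⟨p, q, r, s, e⟩ : ∃ p q r s, M.mat K y = (p, q, r, s) := ⟨_, _, _, _, rfl⟩
    obtain ⟨hb, hc⟩ := hdiagL y hy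
    have ha := M.diag_one K B hg hH hS hE hb hc
    rw [e] at hb hc ha
    dsimp only at hb hc ha
    subst hb hc ha
    refine ⟨s, fun hs => hy1 ((hπ1 y).2 (M.mat_ker K y (by rw [e, hs]; rfl))), e⟩
  -- every element of the normaliser is diagonal
  obtain ⟨⟨q0, hq0⟩, hq01⟩ := Subgroup.ne_bot_iff_exists_ne_one.mp hL1
  obtain ⟨l, rfl⟩ := QuotientGroup.mk'_surjective _ q0
  obtain ⟨lam, hlam, hml⟩ := hformL l hq0 fun e => hq01 (Subtype.ext e)
  have hform : ∀ y : ↥N, ∃ d : ZMod 7, M.mat K y = (1, 0, 0, d) := by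
    intro y
    have hl' : π (y * l * y⁻¹) ∈ L := by
      rw [map_mul, map_mul, map_inv]
      exact (inferInstance : L.Normal).conj_mem _ hq0 _
    have hl'1 : π (y * l * y⁻¹) ≠ 1 := fun e => hq01 (Subtype.ext (by
      rw [map_mul, map_mul, map_inv, conj_eq_one_iff] at e; exact e))
    obtain ⟨μ, hμ, hmμ⟩ := hformL _ hl' hl'1
    have e1 : mmul (M.mat K y) (1, 0, 0, lam) = mmul (1, 0, 0, μ) (M.mat K y) := by
      rw [← hml, ← hmμ, ← M.mat_mul K, ← M.mat_mul K, inv_mul_cancel_right]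
    obtain ⟨p, q, r, s, e⟩ : ∃ p q r s, M.mat K y = (p, q, r, s) := ⟨_, _, _, _, rfl⟩
    rw [e] at e1
    simp only [mmul, Prod.mk.injEq, mul_one, mul_zero, zero_mul, one_mul, add_zero, zero_add] at e1
    obtain ⟨-, hqe, hre, -⟩ := e1
    have hq : q = 0 := by
      have : q * (lam - 1) = 0 := by rw [mul_sub, mul_one, hqe, sub_self]
      exact (mul_eq_zero.mp this).resolve_right (sub_ne_zero.mpr hlam)
    have hr : r = 0 := by
      have : (μ - 1) * r = 0 := by rw [sub_mul, one_mul, ← hre, sub_self]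
      exact (mul_eq_zero.mp this).resolve_left (sub_ne_zero.mpr hμ)
    have hp : (M.mat K y).1 = 1 :=
      M.diag_one K B hg hH hS hE (by rw [e]; exact hq) (by rw [e]; exact hr)
    rw [e] at hp
    exact ⟨s, by rw [e, hq, hr, show p = 1 from hp]⟩
  refine ⟨fun y x => ?_, ?_⟩
  · obtain ⟨d, hd⟩ := hform y
    simp only [mat, Prod.mk.injEq] at hd
    refine toAdd.injective ((K.lin (K.e1.comp (M.cj y).toMonoidHom) x).trans ?_)
    simp only [MonoidHom.comp_apply, MulEquiv.coe_toMonoidHom, hd.1, hd.2.1, one_mul, zero_mul, add_zero]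
  · -- the normaliser has no further seven-elements
    have hno : ∀ y : ↥N, π y ^ 7 = 1 → π y = 1 := by
      intro y hy
      obtain ⟨d, hd⟩ := hform y
      have h7 : M.mat K (y ^ 7) = mone := M.mat_inner K _ ((hπ1 _).1 (by rw [map_pow]; exact hy))
      rw [M.mat_pow K, hd] at h7
      exact (hπ1 y).2 (M.mat_ker K y (by rw [hd, diag_seven d h7]; rfl))
    intro hdvd
    obtain ⟨S, hS'⟩ := M.isP.exists_le_sylow
    haveI : Group.IsNilpotent S := S.2.isNilpotent
    have hlt : M.P.subgroupOf (S : Subgroup G) < ⊤ := lt_top_iff_ne_top.mpr fun e => by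
      refine S.not_dvd_index ?_
      rwa [show (S : Subgroup G) = M.P from le_antisymm (Subgroup.subgroupOf_eq_top.mp e) hS']
    obtain ⟨z, hz, hzF⟩ := SetLike.exists_of_lt (Group.normalizerCondition_of_isNilpotent _ hlt)
    have hzN : (z : G) ∈ N := Subgroup.mem_normalizer_fintype fun x hx =>
      (Subgroup.mem_normalizer_iff.mp hz ⟨x, hS' hx⟩).mp hx
    obtain ⟨k, hk⟩ := S.2 z
    refine hzF ((hπ1 ⟨(z : G), hzN⟩).1 ?_)
    have hk' : π ⟨(z : G), hzN⟩ ^ 7 ^ k = 1 := by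
      rw [← map_pow, show (⟨(z : G), hzN⟩ : ↥N) ^ 7 ^ k = 1 from Subtype.ext (by simpa using congrArg Subtype.val hk), map_one]
    clear hk hzF
    induction k with
    | zero => simpa using hk'
    | succ k ih =>
      refine ih ?_
      rw [pow_succ, pow_mul, ← map_pow, ← map_pow] at hk'
      rw [← map_pow]
      exact hno _ (by rw [← map_pow]; exact hk')

end MData

end CfsgLib.Walter.Seven
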