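import Mathlib

/-!
A `p`-group with an automorphism of order three fixing exactly `⟨φ⟩`, where `φ` has centraliser `⟨φ⟩ × ⟨n⟩` with
`n` of order `p` moved to a power: it is a split extension of an abelian group on which the automorphism is a power
map.

Blueprint: `blueprint/Walter.md`, case (S).
-/

set_option autoImplicit false

namespace CfsgLib.Walter.Seven

universe u

/-- The hypotheses. -/
structure Hyp (P : Type u) [Group P] (p : ℕ) (α : P ≃* P) (φ n : P) (E : ℕ) : Prop where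
  pgroup : IsPGroup p P
  three : ∀ x, α (α (α x)) = x
  fixed : ∀ x, α x = x ↔ x ∈ Subgroup.zpowers φ
  cent : ∀ x, Commute x φ → ∃ i j : ℤ, x = φ ^ i * n ^ j
  np : n ^ p = 1
  αn : α n = n ^ E
  comm : Commute φ n
  pow_id : ∀ x : P, x ^ (E * E + E + 1) = 1

/-- The conclusion. -/
structure Split (P : Type u) [Group P] (α : P ≃* P) (φ : P) (E : ℕ) (W : Subgroup P) : Prop where
  normal : W.Normal
  comm : ∀ x ∈ W, ∀ y ∈ W, Commute x y
  scalar : ∀ x ∈ W, α x = x ^ E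
  decomp : ∀ x, ∃ w ∈ W, ∃ i : ℤ, x = w * φ ^ i
  inf : ∀ i : ℤ, φ ^ i ∈ W → φ ^ i = 1

section Tools

variable {P : Type u} [Group P] {p : ℕ}

theorem eq_one_of_pow (hP : IsPGroup p P) (hp : p.Prime) {m : ℕ} (hm : ¬ p ∣ m) {x : P} (h : x ^ m = 1) : x = 1 := by
  obtain ⟨k, hk⟩ := hP x
  rw [← orderOf_eq_one_iff]
  exact Nat.eq_one_of_dvd_coprimes ((hp.coprime_iff_not_dvd.mpr hm).pow_left k) (orderOf_dvd_of_pow_eq_one hk)
    (orderOf_dvd_of_pow_eq_one h)

theorem exists_root (hP : IsPGroup p P) (hp : p.Prime) {m : ℕ} (hm : ¬ p ∣ m) (x : P) : ∃ k : ℕ, (x ^ k) ^ m = x := by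
  obtain ⟨a, ha⟩ := hP x
  have hcop : Nat.Coprime m (orderOf x) := Nat.Coprime.coprime_dvd_right (orderOf_dvd_of_pow_eq_one ha)
    ((hp.coprime_iff_not_dvd.mpr hm).symm.pow_right a)
  obtain ⟨k, hk⟩ := exists_pow_eq_self_of_coprime hcop
  exact ⟨k, by rwa [← pow_mul, mul_comm, pow_mul]⟩

end Tools

variable {P : Type u} [Group P] [Finite P] {p : ℕ} {α : P ≃* P} {φ n : P} {E : ℕ}

/-- The congruences satisfied by `E`. -/
structure Good (p E : ℕ) : Prop where
  prime : p.Prime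
  ne_three : p ≠ 3
  one : 1 ≤ E
  sub_one : ¬ p ∣ E - 1
  ne_neg : ¬ p ∣ E + 1
  ne_zero : ¬ p ∣ E

variable (hg : Good p E) (h : Hyp P p α φ n E)
include hg h

theorem α_φ : α φ = φ := (h.fixed φ).2 (Subgroup.mem_zpowers φ)

theorem eq_one_of_fixed_scalar {x : P} (h1 : α x = x) (h2 : α x = x ^ E) : x = 1 := by
  have e : x ^ (E - 1) * x = x := by rw [← pow_succ, Nat.sub_add_cancel hg.one, ← h2, h1]
  exact eq_one_of_pow h.pgroup hg.prime hg.sub_one (mul_eq_right.mp e)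

theorem pow_cube {x : P} : x ^ (E * E * E) = x := by
  have e : x ^ (E * E * E + (E * E + E + 1)) = x ^ (1 + E * (E * E + E + 1)) := by congr 1; ring
  rw [pow_add x (E * E * E) (E * E + E + 1), pow_add x 1 _, h.pow_id, mul_one, pow_one, mul_comm E (E * E + E + 1), pow_mul x (E * E + E + 1), h.pow_id,
    one_pow, mul_one] at e
  exact e

/-- An element moved to its `E`th power and to its `E²`th power is trivial. -/
theorem eq_one_of_two {x : P} (h1 : x ^ E = x ^ (E * E)) : x = 1 := by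
  have e : x ^ (E * (E - 1)) * x ^ E = x ^ E := by
    rw [← pow_add, h1]
    congr 1
    obtain ⟨d, hd⟩ : ∃ d, E = d + 1 := ⟨E - 1, by have := hg.one; omega⟩
    rw [hd, Nat.add_sub_cancel]; ring
  refine eq_one_of_pow h.pgroup hg.prime ?_ (mul_eq_right.mp e)
  exact fun hd => (hg.prime.dvd_mul.mp hd).elim hg.ne_zero hg.sub_one

omit [Finite P] in
theorem n_pow_gen {j : ℤ} (hj : n ^ j ≠ 1) : ∃ k : ℤ, (n ^ j) ^ k = n := by
  have hord : orderOf n = p := by
    haveI := Fact.mk hg.prime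
    exact orderOf_eq_prime h.np fun e => hj (by rw [e, one_zpow])
  have hnd : ¬ (p : ℤ) ∣ j := fun hd => hj (by rw [← orderOf_dvd_iff_zpow_eq_one, hord]; exact hd)
  obtain ⟨a, b, hab⟩ := ((Nat.prime_iff_prime_int.mp hg.prime).coprime_iff_not_dvd.mpr hnd)
  refine ⟨b, ?_⟩
  have e : n ^ (a * (p : ℤ) + b * j) = n := by rw [hab, zpow_one]
  rwa [zpow_add, mul_comm a, zpow_mul, zpow_natCast, h.np, one_zpow, one_mul, mul_comm b, zpow_mul] at e

/-- The split extension, when everything commutes with `φ`. -/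
theorem split_abelian (hall : ∀ x : P, Commute x φ) : ∃ W, Split P α φ E W := by
  have hab : ∀ a b : P, Commute a b := by
    intro a b
    obtain ⟨i, j, rfl⟩ := h.cent a (hall a)
    obtain ⟨i', j', rfl⟩ := h.cent b (hall b)
    exact (((Commute.refl φ).zpow_zpow i i').mul_right (h.comm.zpow_zpow i j')).mul_left
      ((h.comm.symm.zpow_zpow j i').mul_right ((Commute.refl n).zpow_zpow j j'))
  have hsc : ∀ x ∈ Subgroup.zpowers n, α x = x ^ E := by
    rintro _ ⟨j, rfl⟩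
    show α (n ^ j) = (n ^ j) ^ E
    rw [map_zpow, h.αn, ← zpow_natCast, ← zpow_natCast, ← zpow_mul, ← zpow_mul, mul_comm]
  refine ⟨Subgroup.zpowers n, ⟨fun x hx y => by rw [(hab y x).eq, mul_inv_cancel_right]; exact hx⟩,
    fun x _ y _ => hab x y, hsc, fun x => ?_, fun i hi => ?_⟩
  · obtain ⟨i, j, rfl⟩ := h.cent x (hall x)
    exact ⟨n ^ j, Subgroup.zpow_mem _ (Subgroup.mem_zpowers n) j, i, (h.comm.zpow_zpow i j).eq⟩
  · refine eq_one_of_fixed_scalar hg h ?_ (hsc _ hi)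
    rw [map_zpow, α_φ hg h]

/-- The automorphism of a quotient by a subgroup of fixed or scalar elements. -/
theorem exists_quot (N : Subgroup P) [N.Normal] (hN : ∀ x ∈ N, α x ∈ N) :
    ∃ β : (P ⧸ N) ≃* (P ⧸ N), ∀ x : P, β (QuotientGroup.mk x) = QuotientGroup.mk (α x) := by
  refine ⟨QuotientGroup.congr N N α (Subgroup.eq_of_le_of_card_ge ?_ ?_), fun x => rfl⟩
  · rintro _ ⟨x, hx, rfl⟩; exact hN x hx
  · exact (Subgroup.card_map_of_injective α.injective).ge

/-- The quotient by the central subgroup generated by `n` satisfies the hypotheses. -/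
theorem quot_n (hn : ∀ x : P, Commute x n) [(Subgroup.zpowers n).Normal]
    (β : (P ⧸ Subgroup.zpowers n) ≃* (P ⧸ Subgroup.zpowers n))
    (hβ : ∀ x : P, β (QuotientGroup.mk x) = QuotientGroup.mk (α x)) :
    ∃ n' : P ⧸ Subgroup.zpowers n, Hyp (P ⧸ Subgroup.zpowers n) p β (QuotientGroup.mk φ) n' E := by
  set π := QuotientGroup.mk' (Subgroup.zpowers n)
  have hπn : π n = 1 := (QuotientGroup.eq_one_iff n).2 (Subgroup.mem_zpowers n)
  have hπ : IsPGroup p (P ⧸ Subgroup.zpowers n) := h.pgroup.to_quotient _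
  have hβπ : ∀ x, β (π x) = π (α x) := hβ
  have hφ' : β (π φ) = π φ := by rw [hβπ, α_φ hg h]
  have hfixed : ∀ x, β x = x ↔ x ∈ Subgroup.zpowers (π φ) := by
    intro q
    constructor
    · obtain ⟨x, rfl⟩ := QuotientGroup.mk'_surjective _ q
      intro hq
      obtain ⟨j, hj⟩ := (QuotientGroup.eq (s := Subgroup.zpowers n)).1 ((hβπ x).symm.trans hq).symm
      simp only at hj
      obtain ⟨k, hk⟩ := exists_root h.pgroup hg.prime hg.sub_one ((n ^ j)⁻¹)
      set c := (n ^ j)⁻¹ ^ k with hc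
      have hcn : c ∈ Subgroup.zpowers n :=
        Subgroup.pow_mem _ (inv_mem (Subgroup.zpow_mem _ (Subgroup.mem_zpowers n) j)) k
      obtain ⟨l, hl⟩ := hcn
      simp only at hl
      have hαc : α c = c ^ E := by rw [← hl, map_zpow, h.αn, ← zpow_natCast, ← zpow_natCast, ← zpow_mul, ← zpow_mul,
        mul_comm]
      have hfix : α (x * c) = x * c := by
        rw [map_mul, hαc, show α x = x * n ^ j by rw [hj, mul_inv_cancel_left], mul_assoc]
        refine congrArg _ ?_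
        rw [← Nat.sub_add_cancel hg.one, pow_succ, hk, ← mul_assoc, mul_inv_cancel, one_mul]
      obtain ⟨i, hi⟩ := (h.fixed _).1 hfix
      refine ⟨i, ?_⟩
      show π φ ^ i = π x
      rw [← map_zpow, show φ ^ i = x * c from hi, map_mul, ← hl, map_zpow, hπn, one_zpow, mul_one]
    · rintro ⟨i, rfl⟩
      show β (π φ ^ i) = π φ ^ i
      rw [map_zpow, hφ']
  have hpow : ∀ q : P ⧸ Subgroup.zpowers n, q ^ (E * E + E + 1) = 1 := fun q => by
    obtain ⟨x, rfl⟩ := QuotientGroup.mk'_surjective _ q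
    rw [← map_pow, h.pow_id, map_one]
  have hthree : ∀ q, β (β (β q)) = q := fun q => by
    obtain ⟨x, rfl⟩ := QuotientGroup.mk'_surjective _ q
    rw [hβπ, hβπ, hβπ, h.three]
  -- the commutator with `φ`
  have hd : ∀ x, Commute (π x) (π φ) ↔ ∃ j : ℤ, x * φ * x⁻¹ * φ⁻¹ = n ^ j := by
    intro x
    constructor
    · intro hc
      obtain ⟨j, hj⟩ := (QuotientGroup.eq_one_iff (x * φ * x⁻¹ * φ⁻¹)).1 (show π (x * φ * x⁻¹ * φ⁻¹) = 1 by
        rw [map_mul, map_mul, map_mul, map_inv, map_inv, hc.eq, mul_inv_cancel_right, mul_inv_cancel])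
      exact ⟨j, hj.symm⟩
    · rintro ⟨j, hj⟩
      have e : π (x * φ * x⁻¹ * φ⁻¹) = 1 := by rw [hj, map_zpow, hπn, one_zpow]
      rw [map_mul, map_mul, map_mul, map_inv, map_inv, mul_inv_eq_one, mul_inv_eq_iff_eq_mul] at e
      exact e
  have hdmul : ∀ (x y : P) (i j : ℤ), x * φ * x⁻¹ * φ⁻¹ = n ^ i → y * φ * y⁻¹ * φ⁻¹ = n ^ j →
      x * y * φ * (x * y)⁻¹ * φ⁻¹ = n ^ (i + j) := by
    intro x y i j hx hy
    calc x * y * φ * (x * y)⁻¹ * φ⁻¹ = x * (y * φ * y⁻¹ * φ⁻¹) * x⁻¹ * (x * φ * x⁻¹ * φ⁻¹) := by group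
      _ = n ^ (i + j) := by
        rw [hy, hx, ((hn x).zpow_right j).eq, mul_inv_cancel_right, ← zpow_add, add_comm]
  have hcentP : ∀ x : P, x * φ * x⁻¹ * φ⁻¹ = 1 → ∃ i : ℤ, π x = π φ ^ i := by
    intro x hx
    obtain ⟨i, j, rfl⟩ := h.cent x (mul_inv_eq_iff_eq_mul.mp (mul_inv_eq_one.mp hx))
    exact ⟨i, by rw [map_mul, map_zpow, map_zpow, hπn, one_zpow, mul_one]⟩
  by_cases hbig : ∃ x : P, ∃ j : ℤ, x * φ * x⁻¹ * φ⁻¹ = n ^ j ∧ n ^ j ≠ 1
  · obtain ⟨x₀, j₀, hx₀, hj₀⟩ := hbig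
    obtain ⟨k₀, hk₀⟩ := n_pow_gen hg h hj₀
    -- an element with commutator `n`
    have hpw : ∀ (x : P) (j : ℤ) (k : ℕ), x * φ * x⁻¹ * φ⁻¹ = n ^ j →
        x ^ k * φ * (x ^ k)⁻¹ * φ⁻¹ = n ^ (j * k) := by
      intro x j k hx
      induction k with
      | zero => simp
      | succ k ih => rw [pow_succ, hdmul _ _ _ _ ih hx]; push_cast; ring_nf
    have hzp : ∀ (x : P) (j k : ℤ), x * φ * x⁻¹ * φ⁻¹ = n ^ j → x ^ k * φ * (x ^ k)⁻¹ * φ⁻¹ = n ^ (j * k) := by
      intro x j k hx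
      obtain ⟨l, rfl | rfl⟩ := Int.eq_nat_or_neg k
      · rw [zpow_natCast]; exact hpw x j l hx
      · have h1 := hpw x j l hx
        rw [zpow_neg, zpow_natCast, inv_inv, mul_neg, zpow_neg, ← h1]
        have hc : Commute ((x ^ l)⁻¹) (x ^ l * φ * (x ^ l)⁻¹ * φ⁻¹) := h1 ▸ (hn _).zpow_right _
        calc (x ^ l)⁻¹ * φ * x ^ l * φ⁻¹
            = (x ^ l)⁻¹ * φ * x ^ l * φ⁻¹ * ((x ^ l * φ * (x ^ l)⁻¹ * φ⁻¹) * (x ^ l * φ * (x ^ l)⁻¹ * φ⁻¹)⁻¹) := by
              rw [mul_inv_cancel, mul_one]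
          _ = (x ^ l)⁻¹ * φ * x ^ l * (φ⁻¹ * (x ^ l * φ * (x ^ l)⁻¹ * φ⁻¹)) *
              (x ^ l * φ * (x ^ l)⁻¹ * φ⁻¹)⁻¹ := by group
          _ = (x ^ l)⁻¹ * φ * x ^ l * ((x ^ l * φ * (x ^ l)⁻¹ * φ⁻¹) * φ⁻¹) *
              (x ^ l * φ * (x ^ l)⁻¹ * φ⁻¹)⁻¹ := by rw [h1, ((hn φ⁻¹).zpow_right _).eq]
          _ = (x ^ l)⁻¹ * φ * (x ^ l * (x ^ l * φ * (x ^ l)⁻¹ * φ⁻¹)) * φ⁻¹ *
              (x ^ l * φ * (x ^ l)⁻¹ * φ⁻¹)⁻¹ := by group
          _ = (x ^ l)⁻¹ * φ * ((x ^ l * φ * (x ^ l)⁻¹ * φ⁻¹) * x ^ l) * φ⁻¹ *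
              (x ^ l * φ * (x ^ l)⁻¹ * φ⁻¹)⁻¹ := by rw [h1, ((hn (x ^ l)).zpow_right _).eq]
          _ = (x ^ l)⁻¹ * (φ * (x ^ l * φ * (x ^ l)⁻¹ * φ⁻¹)) * (x ^ l * φ⁻¹) *
              (x ^ l * φ * (x ^ l)⁻¹ * φ⁻¹)⁻¹ := by group
          _ = (x ^ l)⁻¹ * ((x ^ l * φ * (x ^ l)⁻¹ * φ⁻¹) * φ) * (x ^ l * φ⁻¹) *
              (x ^ l * φ * (x ^ l)⁻¹ * φ⁻¹)⁻¹ := by rw [h1, ((hn φ).zpow_right _).eq]
          _ = _ := by group
    set x := x₀ ^ k₀ with hxdef
    have hx : x * φ * x⁻¹ * φ⁻¹ = n := by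
      rw [hxdef, hzp _ _ _ hx₀, zpow_mul]; exact hk₀
    have hx1 : x * φ * x⁻¹ * φ⁻¹ = n ^ (1 : ℤ) := by rw [zpow_one]; exact hx
    have hcx : Commute (π x) (π φ) := (hd x).2 ⟨1, hx1⟩
    -- its image is moved to a power up to `φ`
    obtain ⟨i, hi⟩ : ∃ i : ℤ, π (α x * (x ^ E)⁻¹) = π φ ^ i := by
      refine hcentP _ ?_
      have h1 : α x * φ * (α x)⁻¹ * φ⁻¹ = n ^ (E : ℤ) := by
        rw [zpow_natCast, ← h.αn, ← hx, map_mul, map_mul, map_mul, map_inv, map_inv, α_φ hg h]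
      have h2 := hzp x 1 (-(E : ℤ)) hx1
      rw [zpow_neg, zpow_natCast, one_mul] at h2
      rw [hdmul _ _ _ _ h1 h2, add_neg_cancel, zpow_zero]
    rw [map_mul, map_inv, map_pow, mul_inv_eq_iff_eq_mul] at hi
    obtain ⟨k, hk⟩ := exists_root hπ hg.prime hg.sub_one (π φ ^ i)
    set c := (π φ ^ i) ^ k with hc
    have hcφ : c ∈ Subgroup.zpowers (π φ) := Subgroup.pow_mem _ (Subgroup.zpow_mem _ (Subgroup.mem_zpowers _) i) k
    obtain ⟨l, hl⟩ := hcφ
    simp only at hl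
    set n' := π x * c with hn'
    have hcxc : Commute (π x) c := hl ▸ hcx.zpow_right l
    have hβc : β c = c := by rw [← hl, map_zpow, hφ']
    have hαn' : β n' = n' ^ E := by
      rw [hn', map_mul, hβc, hβπ, hi, hcxc.mul_pow, ← Nat.sub_add_cancel hg.one, pow_succ c, ← hk,
        Nat.sub_add_cancel hg.one, ← mul_assoc, ((hcxc.pow_pow E (E - 1))).eq]
    have hn'p : n' ^ p = 1 := by
      obtain ⟨i', hi'⟩ := hcentP (x ^ p) (by
        have := hzp x 1 p hx1
        rwa [zpow_natCast, one_mul, zpow_natCast, h.np] at this)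
      have hfx : β (n' ^ p) = n' ^ p := by
        rw [hn', hcxc.mul_pow, ← map_pow π x, hi', ← hl, ← zpow_natCast, ← zpow_mul, ← zpow_add, map_zpow, hφ']
      have e : (n' ^ p) ^ (E - 1) * n' ^ p = n' ^ p := by
        rw [← pow_succ, Nat.sub_add_cancel hg.one]
        conv_rhs => rw [← hfx, map_pow, hαn', ← pow_mul, mul_comm, pow_mul]
      exact eq_one_of_pow hπ hg.prime hg.sub_one (mul_eq_right.mp e)
    refine ⟨n', hπ, hthree, hfixed, fun q hq => ?_, hn'p, hαn', ?_, hpow⟩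
    · obtain ⟨y, rfl⟩ := QuotientGroup.mk'_surjective _ q
      obtain ⟨j, hj⟩ := (hd y).1 hq
      obtain ⟨i', hi'⟩ := hcentP (y * x ^ (-j)) (by rw [hdmul _ _ _ _ hj (hzp x 1 (-j) hx1), one_mul, add_neg_cancel,
        zpow_zero])
      refine ⟨i' - l * j, j, ?_⟩
      rw [show (QuotientGroup.mk φ : P ⧸ Subgroup.zpowers n) = π φ from rfl]
      rw [map_mul, map_zpow, zpow_neg, mul_inv_eq_iff_eq_mul] at hi'
      rw [hi', hn', hcxc.mul_zpow, ← hl, ← zpow_mul, (hcx.zpow_zpow j (l * j)).eq, ← mul_assoc, ← zpow_add,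
        sub_add_cancel]
    · exact hcx.symm.mul_right (hl ▸ (Commute.refl _).zpow_right l)
  · push Not at hbig
    refine ⟨1, hπ, hthree, hfixed, fun q hq => ?_, one_pow p, by simp, Commute.one_right _, hpow⟩
    obtain ⟨y, rfl⟩ := QuotientGroup.mk'_surjective _ q
    obtain ⟨j, hj⟩ := (hd y).1 hq
    obtain ⟨i, hi⟩ := hcentP y (hj.trans (hbig y j hj))
    exact ⟨i, 0, by rw [zpow_zero, mul_one]; exact hi⟩

/-- The quotient by a central subgroup of `⟨φ⟩` satisfies the hypotheses. -/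
theorem quot_z {z : P} (hzφ : z ∈ Subgroup.zpowers φ) (hzc : ∀ x : P, Commute x z) [(Subgroup.zpowers z).Normal]
    (β : (P ⧸ Subgroup.zpowers z) ≃* (P ⧸ Subgroup.zpowers z))
    (hβ : ∀ x : P, β (QuotientGroup.mk x) = QuotientGroup.mk (α x)) :
    Hyp (P ⧸ Subgroup.zpowers z) p β (QuotientGroup.mk φ) (QuotientGroup.mk n) E := by
  set π := QuotientGroup.mk' (Subgroup.zpowers z)
  have hπz : ∀ c ∈ Subgroup.zpowers z, π c = 1 := fun c hc => (QuotientGroup.eq_one_iff c).2 hc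
  have hαz : ∀ c ∈ Subgroup.zpowers z, α c = c := fun c hc => (h.fixed c).2 (Subgroup.zpowers_le.mpr hzφ hc)
  have hβπ : ∀ x, β (π x) = π (α x) := hβ
  have h3 : ∀ x c : P, c ∈ Subgroup.zpowers φ → α x = x * c → c = 1 := by
    intro x c hc hx
    have hαc : α c = c := (h.fixed c).2 hc
    have e : α (α (α x)) = x * c ^ 3 := by
      rw [hx, map_mul, hx, hαc, map_mul, map_mul, hx, hαc]; simp [pow_succ, mul_assoc]
    rw [h.three] at e
    exact eq_one_of_pow h.pgroup hg.prime (fun hd => hg.ne_three ((Nat.prime_dvd_prime_iff_eq hg.prime Nat.prime_three).mp hd))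
      (mul_eq_left.mp e.symm)
  refine ⟨h.pgroup.to_quotient _, fun q => ?_, fun q => ?_, fun q hq => ?_, ?_, ?_, ?_, fun q => ?_⟩
  · obtain ⟨x, rfl⟩ := QuotientGroup.mk'_surjective _ q
    rw [hβπ, hβπ, hβπ, h.three]
  · constructor
    · obtain ⟨x, rfl⟩ := QuotientGroup.mk'_surjective _ q
      intro hq
      have hm : x⁻¹ * α x ∈ Subgroup.zpowers z := QuotientGroup.eq.1 ((hβπ x).symm.trans hq).symm
      have h1 := h3 x _ (Subgroup.zpowers_le.mpr hzφ hm) (mul_inv_cancel_left x _).symm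
      obtain ⟨i, hi⟩ := (h.fixed x).1 (inv_mul_eq_one.mp h1).symm
      exact ⟨i, by show π φ ^ i = π x; rw [← map_zpow]; exact congrArg π hi⟩
    · rintro ⟨i, rfl⟩
      show β (π φ ^ i) = π φ ^ i
      rw [map_zpow, hβπ, α_φ hg h]
  · obtain ⟨x, rfl⟩ := QuotientGroup.mk'_surjective _ q
    have hm : x * φ * x⁻¹ * φ⁻¹ ∈ Subgroup.zpowers z := (QuotientGroup.eq_one_iff _).1 (show π _ = 1 by
      rw [map_mul, map_mul, map_mul, map_inv, map_inv]
      show π x * π φ * (π x)⁻¹ * (π φ)⁻¹ = 1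
      rw [show π x * π φ = π φ * π x from hq.eq, mul_inv_cancel_right, mul_inv_cancel])
    have hfix := hαz _ hm
    rw [map_mul, map_mul, map_mul, map_inv, map_inv, α_φ hg h, mul_left_inj] at hfix
    have hy : Commute (x⁻¹ * α x) φ := by
      show x⁻¹ * α x * φ = φ * (x⁻¹ * α x)
      calc x⁻¹ * α x * φ = x⁻¹ * (α x * φ * (α x)⁻¹) * α x := by group
        _ = φ * (x⁻¹ * α x) := by rw [hfix]; group
    obtain ⟨i, j, hij⟩ := h.cent _ hy
    obtain ⟨k, hk⟩ := exists_root h.pgroup hg.prime hg.sub_one ((n ^ j)⁻¹)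
    obtain ⟨l, hl⟩ : (n ^ j)⁻¹ ^ k ∈ Subgroup.zpowers n :=
      Subgroup.pow_mem _ (inv_mem (Subgroup.zpow_mem _ (Subgroup.mem_zpowers n) j)) k
    simp only at hl
    rw [← hl] at hk
    have hαl : α (n ^ l) = (n ^ l) ^ E := by
      rw [map_zpow, h.αn, ← zpow_natCast, ← zpow_natCast, ← zpow_mul, ← zpow_mul, mul_comm]
    have hx2 : α (x * n ^ l) = x * n ^ l * φ ^ i := by
      rw [map_mul, hαl, show α x = x * (φ ^ i * n ^ j) by rw [← hij, mul_inv_cancel_left],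
        (h.comm.zpow_zpow i j).eq, ← Nat.sub_add_cancel hg.one, pow_succ, hk]
      calc x * (n ^ j * φ ^ i) * ((n ^ j)⁻¹ * n ^ l) = x * n ^ j * (φ ^ i * (n ^ j)⁻¹) * n ^ l := by group
        _ = x * n ^ j * ((n ^ j)⁻¹ * φ ^ i) * n ^ l := by rw [((h.comm.zpow_zpow i j).inv_right).eq]
        _ = x * (φ ^ i * n ^ l) := by group
        _ = x * n ^ l * φ ^ i := by rw [(h.comm.zpow_zpow i l).eq, mul_assoc]
    have h1 := h3 _ _ (Subgroup.zpow_mem _ (Subgroup.mem_zpowers φ) i) hx2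
    rw [h1, mul_one] at hx2
    obtain ⟨i', hi'⟩ := (h.fixed _).1 hx2
    simp only at hi'
    refine ⟨i', -l, ?_⟩
    show π x = π φ ^ i' * π n ^ (-l)
    rw [← map_zpow, ← map_zpow, ← map_mul, hi', zpow_neg, mul_inv_cancel_right]
  · rw [← QuotientGroup.mk_pow, h.np]; rfl
  · rw [hβ, h.αn]; rfl
  · exact (show Commute φ n from h.comm).map π
  · obtain ⟨x, rfl⟩ := QuotientGroup.mk'_surjective _ q
    rw [← map_pow, h.pow_id, map_one]

omit hg h in
theorem pow_comm_central {G : Type u} [Group G] {a b c : G} (hc : ∀ x : G, Commute x c) (hab : a * b = c * (b * a))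
    (l m : ℕ) : a ^ l * b ^ m = c ^ (l * m) * (b ^ m * a ^ l) := by
  have h1 : ∀ m : ℕ, a * b ^ m = c ^ m * (b ^ m * a) := by
    intro m
    induction m with
    | zero => simp
    | succ m ih =>
      calc a * b ^ (m + 1) = a * b ^ m * b := by rw [pow_succ, mul_assoc]
        _ = c ^ m * (b ^ m * (a * b)) := by rw [ih]; group
        _ = c ^ m * (b ^ m * c) * (b * a) := by rw [hab]; group
        _ = c ^ m * (c * b ^ m) * (b * a) := by rw [(hc (b ^ m)).eq]
        _ = c ^ (m + 1) * (b ^ (m + 1) * a) := by rw [pow_succ c, pow_succ b]; group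
  induction l with
  | zero => simp
  | succ l ih =>
    calc a ^ (l + 1) * b ^ m = a ^ l * (a * b ^ m) := by rw [pow_succ, mul_assoc]
      _ = (a ^ l * c ^ m) * (b ^ m * a) := by rw [h1, mul_assoc]
      _ = c ^ m * (a ^ l * b ^ m) * a := by rw [((hc (a ^ l)).pow_right m).eq]; group
      _ = c ^ m * c ^ (l * m) * (b ^ m * (a ^ l * a)) := by rw [ih]; group
      _ = c ^ ((l + 1) * m) * (b ^ m * a ^ (l + 1)) := by rw [← pow_add, ← pow_succ, add_mul, one_mul, add_comm m]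

omit hg h in
/-- The split extension. -/
theorem exists_split (hg : Good p E) : ∀ (m : ℕ) (P : Type u) [Group P] [Finite P] (α : P ≃* P) (φ n : P),
    Nat.card P = m → Hyp P p α φ n E → ∃ W, Split P α φ E W := by
  intro m
  induction m using Nat.strong_induction_on with
  | _ m ih =>
  intro P _ _ α φ n hm h
  by_cases hall : ∀ x : P, Commute x φ
  · exact split_abelian hg h hall
  haveI : Fact p.Prime := ⟨hg.prime⟩
  haveI : Nontrivial P := by
    rcases subsingleton_or_nontrivial P with hs | hs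
    · exact absurd (fun x => by rw [Subsingleton.elim x φ]) hall
    · exact hs
  haveI := h.pgroup.center_nontrivial
  obtain ⟨⟨z, hz⟩, hz1⟩ := exists_ne (1 : Subgroup.center P)
  have hzc : ∀ x : P, Commute x z := fun x => Subgroup.mem_center_iff.1 hz x
  have hz1' : z ≠ 1 := fun e => hz1 (Subtype.ext e)
  obtain ⟨i, j, hij⟩ := h.cent z (hzc φ).symm
  have hlt : ∀ c : P, c ≠ 1 → Nat.card (P ⧸ Subgroup.zpowers c) < m := by
    intro c hc
    have h1 := Subgroup.card_eq_card_quotient_mul_card_subgroup (Subgroup.zpowers c)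
    rw [← hm, h1]
    exact lt_mul_of_one_lt_right Nat.card_pos ((Subgroup.one_lt_card_iff_ne_bot _).2
      fun e => hc (Subgroup.zpowers_eq_bot.1 e))
  have hnorm : ∀ c : P, (∀ x : P, Commute x c) → (Subgroup.zpowers c).Normal := fun c hc => ⟨by
    rintro _ ⟨k, rfl⟩ x
    refine ⟨k, ?_⟩
    show c ^ k = x * c ^ k * x⁻¹
    rw [((hc x).zpow_right k).eq, mul_inv_cancel_right]⟩
  have hαc : ∀ c : P, (∀ x : P, Commute x c) → ∀ x : P, Commute x (α c) := fun c hc x => by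
    have := (hc (α.symm x)).map α.toMonoidHom
    simpa using this
  by_cases hj : n ^ j = 1
  · -- the quotient by a central subgroup of `⟨φ⟩`
    rw [hj, mul_one] at hij
    have hzφ : z ∈ Subgroup.zpowers φ := ⟨i, hij.symm⟩
    haveI := hnorm z hzc
    have hαz : ∀ x ∈ Subgroup.zpowers z, α x = x := fun x hx => (h.fixed x).2 (Subgroup.zpowers_le.mpr hzφ hx)
    have hcz : ∀ c ∈ Subgroup.zpowers z, ∀ x : P, Commute x c := by
      rintro _ ⟨k, rfl⟩ x; exact (hzc x).zpow_right k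
    obtain ⟨β, hβ⟩ := exists_quot hg h (Subgroup.zpowers z) fun x hx => by rw [hαz x hx]; exact hx
    obtain ⟨Wb, S⟩ := ih _ (hlt z hz1') _ β _ _ rfl (quot_z hg h hzφ hzc β hβ)
    set π := QuotientGroup.mk' (Subgroup.zpowers z)
    have hrel : ∀ y : P, π y ∈ Wb → ∃ c ∈ Subgroup.zpowers z, α y = y ^ E * c := by
      intro y hy
      refine ⟨(y ^ E)⁻¹ * α y, QuotientGroup.eq.1 ?_, (mul_inv_cancel_left _ _).symm⟩
      show π (y ^ E) = π (α y)
      rw [map_pow, ← S.scalar _ hy]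
      exact hβ y
    have hab : ∀ a b : P, π a ∈ Wb → π b ∈ Wb → Commute a b := by
      intro a b ha hb
      set c := a * b * a⁻¹ * b⁻¹
      have hc : c ∈ Subgroup.zpowers z := (QuotientGroup.eq_one_iff _).1 (show π c = 1 by
        simp only [c, map_mul, map_inv]
        rw [(S.comm _ ha _ hb).eq, mul_inv_cancel_right, mul_inv_cancel])
      obtain ⟨c1, hc1, e1⟩ := hrel a ha
      obtain ⟨c2, hc2, e2⟩ := hrel b hb
      have hce : c ^ (E * E) = c := by
        have h2 := pow_comm_central (a := a) (b := b) (hcz c hc) (by simp only [c]; group) E E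
        have h3 : α c = c ^ (E * E) := by
          simp only [c, map_mul, map_inv, e1, e2]
          calc a ^ E * c1 * (b ^ E * c2) * (a ^ E * c1)⁻¹ * (b ^ E * c2)⁻¹
              = a ^ E * (c1 * (b ^ E * c2)) * c1⁻¹ * (a ^ E)⁻¹ * c2⁻¹ * (b ^ E)⁻¹ := by group
            _ = a ^ E * b ^ E * (c2 * (a ^ E)⁻¹) * c2⁻¹ * (b ^ E)⁻¹ := by
              rw [← (hcz c1 hc1 _).eq]; group
            _ = a ^ E * b ^ E * (a ^ E)⁻¹ * (b ^ E)⁻¹ := by rw [← (hcz c2 hc2 _).eq]; group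
            _ = (a * b * a⁻¹ * b⁻¹) ^ (E * E) := by rw [h2, show c = a * b * a⁻¹ * b⁻¹ from rfl]; group
        rw [← h3]; exact hαz c hc
      have hc1' : c = 1 := by
        have e : c ^ ((E - 1) * (E + 1)) * c = c := by
          rw [← pow_succ]
          conv_rhs => rw [← hce]
          congr 1
          obtain ⟨d, hd⟩ : ∃ d, E = d + 1 := ⟨E - 1, by have := hg.one; omega⟩
          rw [hd, Nat.add_sub_cancel]; ring
        exact eq_one_of_pow h.pgroup hg.prime (fun hd => (hg.prime.dvd_mul.mp hd).elim hg.sub_one hg.ne_neg)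
          (mul_eq_right.mp e)
      exact mul_inv_eq_iff_eq_mul.mp (mul_inv_eq_one.mp hc1')
    let W : Subgroup P :=
      { carrier := {y | π y ∈ Wb ∧ α y = y ^ E}
        one_mem' := ⟨by rw [map_one]; exact one_mem _, by simp⟩
        mul_mem' := fun {a b} ha hb => ⟨by rw [map_mul]; exact mul_mem ha.1 hb.1, by
          rw [map_mul, ha.2, hb.2, (hab a b ha.1 hb.1).mul_pow]⟩
        inv_mem' := fun {a} ha => ⟨by rw [map_inv]; exact inv_mem ha.1, by rw [map_inv, ha.2, inv_pow]⟩ }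
    have hdec : ∀ x : P, ∃ w ∈ W, ∃ l : ℤ, x = w * φ ^ l := by
      intro x
      obtain ⟨wb, hwb, l, hl⟩ := S.decomp (π x)
      have hy : π (x * (φ ^ l)⁻¹) ∈ Wb := by
        rw [map_mul, map_inv, map_zpow, hl]
        show wb * (π φ) ^ l * ((π φ) ^ l)⁻¹ ∈ Wb
        rwa [mul_inv_cancel_right]
      set y := x * (φ ^ l)⁻¹ with hydef
      obtain ⟨c, hc, hcy⟩ := hrel y hy
      obtain ⟨k, hk⟩ := exists_root h.pgroup hg.prime hg.sub_one c
      have hck : c ^ k ∈ Subgroup.zpowers z := Subgroup.pow_mem _ hc k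
      have hw : y * c ^ k ∈ W := ⟨by rw [map_mul, (QuotientGroup.eq_one_iff (c ^ k)).2 hck |> (fun e => show π (c ^ k) = 1 from e), mul_one]; exact hy, by
        rw [map_mul, hαz _ hck, hcy, (hcz _ hck y).mul_pow, mul_assoc]
        refine congrArg _ ?_
        rw [← Nat.sub_add_cancel hg.one, pow_succ, hk]⟩
      obtain ⟨l', hl'⟩ := Subgroup.zpowers_le.mpr hzφ hck
      simp only at hl'
      refine ⟨_, hw, -l' + l, ?_⟩
      rw [zpow_add, zpow_neg, hl', ← mul_assoc, mul_inv_cancel_right, hydef, inv_mul_cancel_right]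
    refine ⟨W, ⟨fun y hy x => ?_⟩, fun a ha b hb => hab a b ha.1 hb.1, fun a ha => ha.2, hdec, fun l hl => ?_⟩
    · obtain ⟨w, hw, l, rfl⟩ := hdec x
      have h1 : φ ^ l * y * (φ ^ l)⁻¹ ∈ W := ⟨by
        rw [map_mul, map_mul, map_inv]; exact S.normal.conj_mem _ hy.1 _, by
        rw [map_mul, map_mul, map_inv, map_zpow, α_φ hg h, hy.2, conj_pow]⟩
      rw [show w * φ ^ l * y * (w * φ ^ l)⁻¹ = w * (φ ^ l * y * (φ ^ l)⁻¹) * w⁻¹ by group]
      exact mul_mem (mul_mem hw h1) (inv_mem hw)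
    · exact eq_one_of_fixed_scalar hg h (by rw [map_zpow, α_φ hg h]) hl.2
  · -- the quotient by `⟨n⟩`
    have hnc : ∀ x : P, Commute x n := by
      have h1 : α z * z⁻¹ = n ^ (j * ((E : ℤ) - 1)) := by
        rw [hij, map_mul, map_zpow, map_zpow, α_φ hg h, h.αn, _root_.mul_inv_rev, ← zpow_natCast, ← zpow_mul,
          mul_assoc, ← mul_assoc (n ^ ((E : ℤ) * j)), ← zpow_neg, ← zpow_add, ← mul_assoc,
          (h.comm.zpow_zpow i _).eq, mul_inv_cancel_right]
        congr 1; ring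
      have hne : n ^ (j * ((E : ℤ) - 1)) ≠ 1 := by
        intro e
        have e' : (n ^ j) ^ (E - 1) = 1 := by
          rw [← zpow_natCast, ← zpow_mul, Nat.cast_sub hg.one, Nat.cast_one]; exact e
        exact hj (eq_one_of_pow h.pgroup hg.prime hg.sub_one e')
      obtain ⟨k, hk⟩ := n_pow_gen hg h hne
      intro x
      rw [← hk, ← h1]
      exact ((hαc z hzc x).mul_right (hzc x).inv_right).zpow_right k
    have hn1 : n ≠ 1 := fun e => hj (by rw [e, one_zpow])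
    haveI := hnorm n hnc
    have hsc : ∀ x ∈ Subgroup.zpowers n, α x = x ^ E := by
      rintro _ ⟨k, rfl⟩
      show α (n ^ k) = (n ^ k) ^ E
      rw [map_zpow, h.αn, ← zpow_natCast, ← zpow_natCast, ← zpow_mul, ← zpow_mul, mul_comm]
    have hcn : ∀ c ∈ Subgroup.zpowers n, ∀ x : P, Commute x c := by
      rintro _ ⟨k, rfl⟩ x; exact (hnc x).zpow_right k
    obtain ⟨β, hβ⟩ := exists_quot hg h (Subgroup.zpowers n) fun x hx => by
      rw [hsc x hx]; exact Subgroup.pow_mem _ hx _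
    obtain ⟨n', hQ⟩ := quot_n hg h hnc β hβ
    obtain ⟨Wb, S⟩ := ih _ (hlt n hn1) _ β _ _ rfl hQ
    set π := QuotientGroup.mk' (Subgroup.zpowers n)
    haveI := S.normal
    have hinf : ∀ l : ℤ, φ ^ l ∈ Wb.comap π → φ ^ l = 1 := by
      intro l hl
      have h1 := S.inf l (by
        show (π φ) ^ l ∈ Wb
        rw [← map_zpow]; exact hl)
      have h2 : φ ^ l ∈ Subgroup.zpowers n := (QuotientGroup.eq_one_iff _).1 (show π (φ ^ l) = 1 by
        rw [map_zpow]; exact h1)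
      exact eq_one_of_fixed_scalar hg h (by rw [map_zpow, α_φ hg h]) (hsc _ h2)
    have hfix : ∀ y ∈ Wb.comap π, α y = y → y = 1 := by
      intro y hy hye
      obtain ⟨l, rfl⟩ := (h.fixed y).1 hye
      exact hinf l hy
    have hrel : ∀ y : P, π y ∈ Wb → ∃ c ∈ Subgroup.zpowers n, α y = y ^ E * c := by
      intro y hy
      refine ⟨(y ^ E)⁻¹ * α y, QuotientGroup.eq.1 ?_, (mul_inv_cancel_left _ _).symm⟩
      show π (y ^ E) = π (α y)
      rw [map_pow, ← S.scalar _ hy]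
      exact hβ y
    have hab : ∀ a b : P, π a ∈ Wb → π b ∈ Wb → Commute a b := by
      intro a b ha hb
      set c := a * b * a⁻¹ * b⁻¹
      have hc : c ∈ Subgroup.zpowers n := (QuotientGroup.eq_one_iff _).1 (show π c = 1 by
        simp only [c, map_mul, map_inv]
        rw [(S.comm _ ha _ hb).eq, mul_inv_cancel_right, mul_inv_cancel])
      obtain ⟨c1, hc1, e1⟩ := hrel a ha
      obtain ⟨c2, hc2, e2⟩ := hrel b hb
      have h2 := pow_comm_central (a := a) (b := b) (hcn c hc) (by simp only [c]; group) E E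
      have h3 : α c = c ^ (E * E) := by
        simp only [c, map_mul, map_inv, e1, e2]
        calc a ^ E * c1 * (b ^ E * c2) * (a ^ E * c1)⁻¹ * (b ^ E * c2)⁻¹
            = a ^ E * (c1 * (b ^ E * c2)) * c1⁻¹ * (a ^ E)⁻¹ * c2⁻¹ * (b ^ E)⁻¹ := by group
          _ = a ^ E * b ^ E * (c2 * (a ^ E)⁻¹) * c2⁻¹ * (b ^ E)⁻¹ := by
            rw [← (hcn c1 hc1 _).eq]; group
          _ = a ^ E * b ^ E * (a ^ E)⁻¹ * (b ^ E)⁻¹ := by rw [← (hcn c2 hc2 _).eq]; group
          _ = (a * b * a⁻¹ * b⁻¹) ^ (E * E) := by rw [h2, show c = a * b * a⁻¹ * b⁻¹ from rfl]; group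
      exact mul_inv_eq_iff_eq_mul.mp (mul_inv_eq_one.mp (eq_one_of_two hg h (show c ^ E = c ^ (E * E) by
        rw [← h3, hsc c hc])))
    have hscal : ∀ w : P, π w ∈ Wb → α w = w ^ E := by
      intro w hw
      obtain ⟨c, hc, hcw⟩ := hrel w hw
      set a1 := α w with ha1
      set a2 := α a1 with ha2
      have hm1 : π a1 ∈ Wb := by
        rw [hcw, map_mul, map_pow, show π c = 1 from (QuotientGroup.eq_one_iff c).2 hc, mul_one]
        exact pow_mem hw E
      have hm2 : π a2 ∈ Wb := by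
        obtain ⟨c', hc', e'⟩ := hrel a1 hm1
        rw [ha2, e', map_mul, map_pow, show π c' = 1 from (QuotientGroup.eq_one_iff c').2 hc', mul_one]
        exact pow_mem hm1 E
      have hprod : w * a1 * a2 = 1 := by
        refine hfix _ (by show π _ ∈ Wb; rw [map_mul, map_mul]; exact mul_mem (mul_mem hw hm1) hm2) ?_
        rw [map_mul, map_mul, ← ha1, ← ha2, show α a2 = w from h.three w]
        exact ((hab w a1 hw hm1).mul_right (hab w a2 hw hm2)).eq.symm.trans (mul_assoc _ _ _).symm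
      have ha2' : a2 = (a1 ^ 1)⁻¹ * w⁻¹ := by
        rw [pow_one]
        exact (eq_inv_of_mul_eq_one_right hprod).trans (_root_.mul_inv_rev _ _)
      set f := a1 * (w ^ E)⁻¹ with hf
      have hfc : f = c := by rw [hf, hcw, ((hcn c hc) (w ^ E)).eq, mul_inv_cancel_right]
      have hc1 : Commute a1 w := (hab w a1 hw hm1).symm
      have hff : α f = f ^ (E * E) := by
        have hl : α f = w⁻¹ * (a1 ^ (E + 1))⁻¹ := by
          rw [hf, map_mul, map_inv, map_pow, ← ha1, ← ha2, ha2', pow_one, pow_succ, _root_.mul_inv_rev,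
            (hc1.inv_inv).eq, mul_assoc]
        have hr : f ^ (E * E) = a1 ^ (E * E) * w⁻¹ := by
          rw [hf, (hc1.pow_right E).inv_right.mul_pow, inv_pow, ← pow_mul, ← mul_assoc E E E, pow_cube hg h]
        rw [hl, hr, ((hc1.symm.inv_left).pow_right (E * E)).eq.symm]
        refine congrArg _ (inv_eq_of_mul_eq_one_left ?_)
        rw [← pow_add, show E * E + (E + 1) = E * E + E + 1 by ring]
        exact h.pow_id a1
      rw [hfc] at hff
      rw [hcw, eq_one_of_two hg h (show c ^ E = c ^ (E * E) by rw [← hsc c hc, hff]), mul_one]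
    refine ⟨Wb.comap π, inferInstance, fun a ha b hb => hab a b ha hb, hscal, fun x => ?_, hinf⟩
    obtain ⟨wb, hwb, l, hl⟩ := S.decomp (π x)
    refine ⟨x * (φ ^ l)⁻¹, ?_, l, (inv_mul_cancel_right _ _).symm⟩
    show π (x * (φ ^ l)⁻¹) ∈ Wb
    rw [map_mul, map_inv, map_zpow, hl]
    show wb * (π φ) ^ l * ((π φ) ^ l)⁻¹ ∈ Wb
    rwa [mul_inv_cancel_right]

end CfsgLib.Walter.Seven
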